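import Cfsg.Agent.Lib.LocalEven.PushBaumann

/-!
The Baumann subgroup for the abelian Thompson subgroup, inside an ambient group.
-/

set_option autoImplicit false
set_option linter.unusedSectionVars false

namespace CfsgLib.CharTransfer

open Cfsg Subgroup
open CfsgLib.LocalEven.Push (MAs jay)

/-- `S ∩ C(Z(J(S)))`. -/
def bau {G : Type*} [Group G] (S : Subgroup G) : Subgroup G :=
  S ⊓ centralizer (centerThompsonAOf S : Set G)

variable {G X : Type*} [Group G] [Group X] (f : X →* G) (hf : Function.Injective f)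

include hf in
theorem le_cen_map {A : Subgroup X} :
    A.map f ≤ centralizer (A.map f : Set G) ↔ A ≤ centralizer (A : Set X) := by
  constructor
  · intro h x hx y hy
    exact hf (by rw [map_mul, map_mul]; exact h ⟨x, hx, rfl⟩ _ ⟨y, hy, rfl⟩)
  · rintro h _ ⟨x, hx, rfl⟩ _ ⟨y, hy, rfl⟩
    rw [← map_mul, ← map_mul]; exact congrArg f (h hx y hy)

include hf in
theorem mas_map {R A : Subgroup X} : MAs (R.map f) (A.map f) ↔ MAs R A := by
  constructor
  · rintro ⟨h1, h2, h3⟩
    refine ⟨(map_le_map_iff_of_injective hf).1 h1, (le_cen_map f hf).1 h2, fun B hB hBc => ?_⟩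
    have := h3 (B.map f) (map_mono hB) ((le_cen_map f hf).2 hBc)
    rwa [card_map_of_injective hf, card_map_of_injective hf] at this
  · rintro ⟨h1, h2, h3⟩
    refine ⟨map_mono h1, (le_cen_map f hf).2 h2, fun B hB hBc => ?_⟩
    have e : (B.comap f).map f = B := map_comap_eq_self (hB.trans (map_le_range f R))
    rw [← e, card_map_of_injective hf, card_map_of_injective hf]
    refine h3 _ ((comap_mono hB).trans (comap_map_eq_self_of_injective hf R).le) ?_
    exact (le_cen_map f hf).1 (e.symm ▸ hBc)

include hf in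
theorem map_jay (R : Subgroup X) : jay (R.map f) = (jay R).map f := by
  refine le_antisymm (sSup_le fun A hA => ?_) (map_le_iff_le_comap.2 (sSup_le fun A hA => ?_))
  · have e : (A.comap f).map f = A := map_comap_eq_self (hA.1.trans (map_le_range f R))
    rw [← e]
    refine map_mono (CfsgLib.LocalEven.Push.le_jay ((mas_map f hf).1 ?_))
    rw [e]; exact hA
  · exact map_le_iff_le_comap.1 (CfsgLib.LocalEven.Push.le_jay ((mas_map f hf).2 hA))

include hf in
theorem map_inf_cen {A C : Subgroup X} :
    A.map f ⊓ centralizer (C.map f : Set G) = (A ⊓ centralizer (C : Set X)).map f := by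
  ext y
  constructor
  · rintro ⟨⟨x, hx, rfl⟩, hy⟩
    exact ⟨x, ⟨hx, fun c hc => hf (by rw [map_mul, map_mul]; exact hy _ ⟨c, hc, rfl⟩)⟩, rfl⟩
  · rintro ⟨x, ⟨hx, hx'⟩, rfl⟩
    refine ⟨⟨x, hx, rfl⟩, ?_⟩
    rintro _ ⟨c, hc, rfl⟩
    rw [← map_mul, ← map_mul]; exact congrArg f (hx' c hc)

include hf in
theorem map_centerThompsonAOf (R : Subgroup X) :
    centerThompsonAOf (R.map f) = (centerThompsonAOf R).map f := by
  rw [CfsgLib.LocalEven.Push.centerThompsonAOf_eq, CfsgLib.LocalEven.Push.centerThompsonAOf_eq,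
    map_jay f hf]
  exact map_inf_cen f hf

include hf in
theorem map_bau (R : Subgroup X) : bau (R.map f) = (bau R).map f := by
  rw [bau, bau, map_centerThompsonAOf f hf]
  exact map_inf_cen f hf

omit hf f in
theorem bau_le (S : Subgroup G) : bau S ≤ S := inf_le_left

omit hf f in
theorem bau_char (S : Subgroup G) : ((bau S).subgroupOf S).Characteristic := by
  have e : (bau S).subgroupOf S = bau (⊤ : Subgroup ↥S) := by
    have h := map_bau S.subtype S.subtype_injective ⊤
    rw [← MonoidHom.range_eq_map, Subgroup.range_subtype] at h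
    rw [h]
    exact comap_map_eq_self_of_injective S.subtype_injective _
  rw [e, characteristic_iff_map_eq]
  intro φ
  have h := map_bau φ.toMonoidHom φ.injective (⊤ : Subgroup ↥S)
  rw [map_top_of_surjective _ φ.surjective] at h
  exact h.symm

omit hf f in
theorem jay_le_bau [Finite G] (S : Subgroup G) : jay S ≤ bau S :=
  le_inf CfsgLib.LocalEven.Push.jay_le (le_centralizer_iff.1
    ((CfsgLib.LocalEven.Push.centerThompsonAOf_eq (S := S)).le.trans inf_le_right))

omit hf f in
theorem jay_eq [Finite G] {R S : Subgroup G} (hRS : R ≤ S) (h : jay S ≤ R) : jay R = jay S := by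
  have hiff : ∀ A, MAs R A ↔ MAs S A := by
    intro A
    constructor
    · rintro ⟨h1, h2, h3⟩
      obtain ⟨A0, hA0⟩ := CfsgLib.LocalEven.Push.exists_mas (S := S)
      refine ⟨h1.trans hRS, h2, fun B hB hBc => ?_⟩
      exact (hA0.2.2 B hB hBc).trans (h3 A0 ((CfsgLib.LocalEven.Push.le_jay hA0).trans h) hA0.2.1)
    · intro hA
      exact ⟨(CfsgLib.LocalEven.Push.le_jay hA).trans h, hA.2.1, fun B hB hBc => hA.2.2 B (hB.trans hRS) hBc⟩
  exact le_antisymm (sSup_le fun A hA => CfsgLib.LocalEven.Push.le_jay ((hiff A).1 hA))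
    (sSup_le fun A hA => CfsgLib.LocalEven.Push.le_jay ((hiff A).2 hA))

omit hf f in
theorem bau_eq [Finite G] {R S : Subgroup G} (hRS : R ≤ S) (h : bau S ≤ R) : bau R = bau S := by
  have e : centerThompsonAOf R = centerThompsonAOf S := by
    rw [CfsgLib.LocalEven.Push.centerThompsonAOf_eq, CfsgLib.LocalEven.Push.centerThompsonAOf_eq,
      jay_eq hRS ((jay_le_bau S).trans h)]
  rw [bau, e]
  exact le_antisymm (inf_le_inf_right _ hRS) (le_inf h inf_le_right)

end CfsgLib.CharTransfer
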