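import Cfsg.Agent.Lib.LocalEven.FFPMin.Basic

/-!
A nontrivial abelian `p`-group with the offender inequality contains an elementary abelian one.
-/

set_option autoImplicit false
set_option linter.unusedSectionVars false

namespace CfsgLib.CharTransfer

open CfsgLib.LocalEven.FFPMin
open CfsgLib.LocalEven.OffenderSL2 (fixP)

variable {P : Type*} [Group P] {N : Type*} [AddCommGroup N] [DistribMulAction P N]

/-- A minimal subgroup with the offender inequality acts quadratically. -/
theorem quad_of_min {p : ℕ} [Fact p.Prime] [Finite P] [Finite N] (expN : ∀ n : N, p • n = 0)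
    {A : Subgroup P} (hAne : A ≠ ⊥) (hAp : IsPGroup p A) (hcomm : ∀ a ∈ A, ∀ b ∈ A, a * b = b * a)
    (hineq : Nat.card N ≤ Nat.card A * Nat.card (fixP N A))
    (hstrict : ∀ A₀ ≤ A, A₀ ≠ ⊥ → A₀ ≠ A →
      Nat.card A₀ * Nat.card (fixP N A₀) < Nat.card A * Nat.card (fixP N A)) : Quad N A := by
  classical
  intro a0 ha0 n
  set U := fixP N A with hU
  have hfix : ∀ a ∈ A, ∀ u ∈ U, a • u = u := fun a ha u hu => hu a ha
  let Bn : Subgroup P :=
    { carrier := {b | b ∈ A ∧ b • n - n ∈ U}
      one_mem' := ⟨one_mem _, by rw [one_smul, sub_self]; exact zero_mem _⟩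
      mul_mem' := fun {b c} hb hc => ⟨mul_mem hb.1 hc.1, by
        have := add_mem hb.2 hc.2
        rw [← hfix b hb.1 _ hc.2, smul_sub, ← mul_smul, add_comm, sub_add_sub_cancel] at this
        exact this⟩
      inv_mem' := fun {b} hb => ⟨inv_mem hb.1, by
        have e := neg_mem hb.2
        rw [← hfix _ (inv_mem hb.1) _ e, neg_sub, smul_sub, inv_smul_smul] at e
        exact e⟩ }
  have hBA : Bn ≤ A := fun _ hb => hb.1
  rcases eq_or_ne Bn A with e | hne
  · exact (e.ge ha0 : a0 ∈ Bn).2
  let f : A → N ⧸ U := fun a => QuotientAddGroup.mk ((a : P) • n - n)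
  have hf : ∀ b c : A, f b = f c → ((b : P))⁻¹ * c ∈ Bn := by
    intro b c e
    refine ⟨mul_mem (inv_mem b.2) c.2, ?_⟩
    have e' : -((b : P) • n - n) + ((c : P) • n - n) ∈ U := QuotientAddGroup.eq.1 e
    rw [← hfix _ (inv_mem b.2) _ e', smul_add, smul_neg, smul_sub, smul_sub, inv_smul_smul, ← mul_smul] at e'
    convert e' using 1
    abel
  rcases eq_or_ne Bn ⊥ with hbot | hbot
  · exfalso
    have hinj : Function.Injective f := fun b c e => by
      have := hf b c e
      rw [hbot, Subgroup.mem_bot, inv_mul_eq_one] at this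
      exact Subtype.ext this
    have hle : Nat.card (N ⧸ U) ≤ Nat.card A := by
      refine Nat.le_of_mul_le_mul_right ?_ (Nat.card_pos (α := U))
      rw [← AddSubgroup.card_eq_card_quotient_mul_card_addSubgroup]
      exact hineq
    obtain ⟨a, ha⟩ := (hinj.bijective_of_nat_card_le hle).2 (QuotientAddGroup.mk n)
    have h2 : (a : P) • n - (2 : ℕ) • n ∈ U := by
      have e' : -((a : P) • n - n) + n ∈ U := QuotientAddGroup.eq.1 ha
      have := neg_mem e'
      convert this using 1
      rw [two_nsmul]; abel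
    have key : ∀ k : ℕ, ((a : P) ^ k) • n - (2 ^ k) • n ∈ U := by
      intro k
      induction k with
      | zero => simp [zero_mem]
      | succ k ih =>
        have e1 := add_mem ih (nsmul_mem h2 (2 ^ k))
        rw [← hfix _ a.2 _ ih, smul_sub, smul_sub, smul_comm (a : P) (2 ^ k) n, ← mul_smul, ← pow_succ'] at e1
        rw [← mul_nsmul'] at e1
        convert e1 using 1
        rw [pow_succ]
        abel
    obtain ⟨e, he⟩ := hAp a
    have hp := key (p ^ e)
    rw [show (a : P) ^ p ^ e = 1 from congrArg Subtype.val he, one_smul, nsmul_mod expN] at hp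
    have e2 : 2 ^ p ^ e % p = 2 % p := by
      have := congrArg ZMod.val (ZMod.pow_card_pow (n := e) (2 : ZMod p))
      rwa [← Nat.cast_ofNat, ← Nat.cast_pow, ZMod.val_natCast, ZMod.val_natCast] at this
    rw [e2, ← nsmul_mod expN] at hp
    have hn : n ∈ U := by
      have := neg_mem hp
      rwa [two_nsmul, neg_sub, add_sub_cancel_right] at this
    refine hAne (le_bot_iff.1 (le_trans (fun b hb => ?_) hbot.le))
    exact ⟨hb, by rw [hfix b hb n hn, sub_self]; exact zero_mem _⟩
  · exfalso
    have hlt := hstrict Bn hBA hbot hne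
    let W := U ⊔ AddSubgroup.closure {m | ∃ c ∈ A, c • n - n = m}
    have hW : W ≤ fixP N Bn := by
      refine sup_le (fixP_anti hBA) ((AddSubgroup.closure_le _).2 ?_)
      rintro _ ⟨c, hc, rfl⟩ b hb
      have e := hfix c hc _ hb.2
      rw [smul_sub, ← mul_smul, hcomm c hc b hb.1, mul_smul] at e
      rw [smul_sub, sub_eq_sub_iff_sub_eq_sub]
      exact e
    let g : A → W.map (QuotientAddGroup.mk' U) := fun c =>
      ⟨f c, _, AddSubgroup.mem_sup_right (AddSubgroup.subset_closure ⟨c, c.2, rfl⟩), rfl⟩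
    have hA : Nat.card A ≤ Nat.card Bn * Nat.card (W.map (QuotientAddGroup.mk' U)) := by
      obtain ⟨sec, hsec⟩ : ∃ sec : _ → A, ∀ b : A, g (sec (g b)) = g b :=
        ⟨Function.invFun g, fun b => Function.invFun_eq ⟨b, rfl⟩⟩
      rw [← Nat.card_prod]
      refine Nat.card_le_card_of_injective
        (fun b : A => ((⟨_, hf _ _ (congrArg Subtype.val (hsec b))⟩ : Bn), g b)) fun b c e => ?_
      obtain ⟨h1, h2⟩ := Prod.ext_iff.1 e
      have h1' := congrArg Subtype.val h1
      dsimp only at h2
      simp only [h2] at h1'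
      exact Subtype.ext (mul_left_cancel h1')
    have hWc : Nat.card (W.map (QuotientAddGroup.mk' U)) * Nat.card U = Nat.card W := by
      let π : W →+ N ⧸ U := (QuotientAddGroup.mk' U).comp W.subtype
      have hr : π.range = W.map (QuotientAddGroup.mk' U) := by
        rw [AddMonoidHom.range_comp, AddSubgroup.range_subtype]
      have hk : Nat.card π.ker = Nat.card U := by
        rw [show π.ker = U.addSubgroupOf W by
          ext u
          exact QuotientAddGroup.eq_zero_iff (u : N)]
        exact Nat.card_congr (AddSubgroup.addSubgroupOfEquivOfLe le_sup_left).toEquiv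
      have := π.ker.card_mul_index
      rw [AddSubgroup.index_ker, hr, hk] at this
      rw [← this, mul_comm]
    refine absurd hlt (not_lt.2 ?_)
    calc Nat.card A * Nat.card U ≤ Nat.card Bn * Nat.card (W.map (QuotientAddGroup.mk' U)) * Nat.card U :=
          Nat.mul_le_mul_right _ hA
      _ = Nat.card Bn * Nat.card W := by rw [mul_assoc, hWc]
      _ ≤ Nat.card Bn * Nat.card (fixP N Bn) := Nat.mul_le_mul_left _ (AddSubgroup.card_le_of_le hW)

/-- The elementary abelian offender. -/
theorem exists_isOff {p : ℕ} [hp : Fact p.Prime] [Finite P] [Finite N] (expN : ∀ n : N, p • n = 0)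
    (faith : ∀ g : P, (∀ n : N, g • n = n) → g = 1) {X : Subgroup P} (hne : X ≠ ⊥)
    (hXp : IsPGroup p X) (hcomm : ∀ a ∈ X, ∀ b ∈ X, a * b = b * a)
    (hineq : Nat.card N ≤ Nat.card X * Nat.card (fixP N X)) : ∃ A ≤ X, IsOff N p A := by
  classical
  have hex : ∃ k, ∃ A, A ≤ X ∧ A ≠ ⊥ ∧ Nat.card N ≤ Nat.card A * Nat.card (fixP N A) ∧ Nat.card A = k :=
    ⟨_, X, le_rfl, hne, hineq, rfl⟩
  obtain ⟨A, hAX, hA0, hA, hk⟩ := Nat.find_spec hex
  have hq : Quad N A := quad_of_min expN hA0 (hXp.to_le hAX)
    (fun a ha b hb => hcomm a (hAX ha) b (hAX hb)) hA fun A₀ h0 h1 h2 => by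
      refine lt_of_lt_of_le ?_ hA
      by_contra hlt
      exact h2 (Subgroup.eq_of_le_of_card_ge h0
        (hk ▸ Nat.find_min' hex ⟨A₀, h0.trans hAX, h1, not_lt.1 hlt, rfl⟩))
  refine ⟨A, hAX, hA0, fun a ha b hb => hcomm a (hAX ha) b (hAX hb), fun a ha => faith _ fun n => ?_, hA⟩
  have key : ∀ k : ℕ, a ^ k • n = n + k • (a • n - n) := by
    intro k
    induction k with
    | zero => simp
    | succ k ih =>
      rw [pow_succ', mul_smul, ih, smul_add, smul_comm a k (a • n - n), hq a ha n a ha, succ_nsmul]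
      abel
  rw [key, expN, add_zero]

end CfsgLib.CharTransfer
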