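import Cfsg.Agent.Lib.CharTransfer.Setting
import Cfsg.Agent.Lib.CharTransfer.MinOff
import Cfsg.Agent.Lib.LocalEven.FFPMin.Lift
import Cfsg.Agent.Lib.WeakCentral.Pair
import Cfsg.Agent.Lib.PGroups.Basic
import Cfsg.Agent.Lib.Classical.Order

/-!
A setting has exactly one natural block, so a `PSL₂` quotient.
-/

set_option autoImplicit false
set_option linter.unusedSectionVars false
set_option linter.style.haveILetI false

namespace CfsgLib.CharTransfer

open Cfsg Subgroup Matrix
open scoped MatrixGroups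
open CfsgLib.LocalEven.FFPMin (IsOff moveP move_mem smul_mem_moveP VData VDecomp IsLinearOn)
open CfsgLib.LocalEven.OffenderSL2 (fixP)

variable {p : ℕ} [hp : Fact p.Prime] {Γ N : Type*} [Group Γ] [AddCommGroup N]
  [DistribMulAction Γ N]

variable (N) in
/-- The vectors inverted by `z`. -/
def negV (z : Γ) : AddSubgroup N where
  carrier := {v | z • v = -v}
  zero_mem' := by simp
  add_mem' {a b} ha hb := by
    show z • (a + b) = -(a + b)
    rw [smul_add, show z • a = -a from ha, show z • b = -b from hb, neg_add]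
  neg_mem' {a} ha := by
    show z • -a = - -a
    rw [smul_neg, show z • a = -a from ha]

theorem mem_negV {z : Γ} {v : N} : v ∈ negV N z ↔ z • v = -v := Iff.rfl

theorem eq_zero_of_two (hp2 : p ≠ 2) (exp : ∀ v : N, p • v = 0) {v : N} (h : v + v = 0) : v = 0 :=
  CfsgLib.WeakCentral.eq_zero_of_coprime (n := 2)
    (((Nat.coprime_primes Nat.prime_two hp.out).2 (Ne.symm hp2))) (by rw [two_nsmul]; exact h) (exp v)

theorem exists_half (hp2 : p ≠ 2) (exp : ∀ v : N, p • v = 0) : ∃ h : ℕ, ∀ v : N, h • v + h • v = v := by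
  obtain ⟨k, hk⟩ := hp.out.odd_of_ne_two hp2
  refine ⟨k + 1, fun v => ?_⟩
  rw [← add_nsmul, show k + 1 + (k + 1) = p + 1 by omega, add_nsmul, exp, zero_add, one_nsmul]

section Blocks

variable {ι : Type*} (z : ι → Γ) (hfix : ∀ i j, i ≠ j → ∀ v ∈ negV N (z i), z j • v = v)

include hfix in
theorem fixed_of_sum {S : Finset ι} {v : N} (hv : v ∈ ⨆ k ∈ S, negV N (z k)) {a : ι} (ha : a ∉ S) :
    z a • v = v := by
  have : (⨆ k ∈ S, negV N (z k)) ≤ fixV N (zpowers (z a)) := by
    refine iSup₂_le fun k hk w hw g hg => ?_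
    have hle : zpowers (z a) ≤ MulAction.stabilizer Γ w :=
      zpowers_le.2 (hfix k a (fun e => ha (e ▸ hk)) w hw)
    exact hle hg
  exact this hv _ (mem_zpowers _)

include hfix in
theorem sum_eq_zero (hp2 : p ≠ 2) (exp : ∀ v : N, p • v = 0) {S : Finset ι} :
    ∀ {v : N}, v ∈ ⨆ k ∈ S, negV N (z k) → (∀ k ∈ S, z k • v = v) → v = 0 := by
  classical
  induction S using Finset.induction_on with
  | empty =>
    intro v hv _
    simpa using hv
  | @insert a S ha ih =>
    intro v hv hz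
    rw [Finset.iSup_insert, AddSubgroup.mem_sup] at hv
    obtain ⟨w, hw, u, hu, rfl⟩ := hv
    have h1 := hz a (Finset.mem_insert_self a S)
    rw [smul_add, fixed_of_sum z hfix hu ha, show z a • w = -w from hw] at h1
    have hw0 : w = 0 := eq_zero_of_two hp2 exp (by
      have := add_right_cancel h1
      rw [← neg_eq_iff_add_eq_zero]
      exact this)
    subst hw0
    rw [zero_add]
    refine ih hu fun k hk => ?_
    have := hz k (Finset.mem_insert_of_mem hk)
    rwa [zero_add] at this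

end Blocks

variable [Finite Γ] [Finite N]

/-- An abelian best offender fixes every block that it permutes. -/
theorem perm_trivial (hp2 : p ≠ 2) (exp : ∀ v : N, p • v = 0) {ι : Type*} [Fintype ι] (z : ι → Γ)
    (hfix : ∀ i j, i ≠ j → ∀ v ∈ negV N (z i), z j • v = v)
    (hne : ∀ i, negV N (z i) ≠ ⊥) {X : Subgroup Γ} (hXp : IsPGroup p X)
    (hXc : ∀ a ∈ X, ∀ b ∈ X, a * b = b * a) (hX : IsBest N X)
    (σ : ↥X →* Equiv.Perm ι) (hσ : ∀ (x : ↥X) i, ∀ v ∈ negV N (z i), (x : Γ) • v ∈ negV N (z (σ x i))) :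
    ∀ x i, σ x i = i := by
  classical
  intro x0 i0
  by_contra hmove
  let St : Subgroup ↥X :=
    { carrier := {x | σ x i0 = i0}
      one_mem' := by simp
      mul_mem' := fun {a b} ha hb => by
        show σ (a * b) i0 = i0
        rw [map_mul, Equiv.Perm.mul_apply, hb, ha]
      inv_mem' := fun {a} ha => by
        show σ a⁻¹ i0 = i0
        rw [map_inv, Equiv.Perm.inv_def, Equiv.symm_apply_eq, ha] }
  have hSt : St ≠ ⊤ := fun h => hmove (show x0 ∈ St from h ▸ mem_top x0)
  obtain ⟨X1, hX1, hle⟩ := (eq_top_or_exists_le_coatom St).resolve_left hSt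
  haveI hX1n : X1.Normal := ⟨fun a ha g => by
    have hc : g * a = a * g := Subtype.ext (hXc g g.2 a a.2)
    rwa [hc, mul_inv_cancel_right]⟩
  haveI : IsPGroup p ↥X := hXp
  have hidx : X1.index = p := CfsgLib.PGroups.index_eq_of_isCoatom hXp hX1
  obtain ⟨x, hxX1⟩ : ∃ x, x ∉ X1 := by
    by_contra h
    push Not at h
    exact hX1.1 ((eq_top_iff' X1).2 h)
  set X' := X1.map X.subtype with hX'
  have hX'X : X' ≤ X := map_subtype_le _
  have hrel : X'.relIndex X = p := by
    rw [relIndex, subgroupOf, hX', comap_map_eq_self_of_injective X.subtype_injective, hidx]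
  -- a vector of the orbit of `i0` under `X1`
  let O1 : Finset ι := Finset.univ.filter fun k => ∃ y ∈ X1, σ y i0 = k
  have hmemO : ∀ k, k ∈ O1 ↔ ∃ y ∈ X1, σ y i0 = k := fun k => by simp [O1]
  let Y := ⨆ k ∈ O1, negV N (z k)
  have hmove' : ∀ (g : ↥X) (S' : Finset ι), (∀ k ∈ O1, σ g k ∈ S') →
      ∀ v ∈ Y, (g : Γ) • v ∈ ⨆ k ∈ S', negV N (z k) := by
    intro g S' hS' v hv
    have : Y ≤ (⨆ k ∈ S', negV N (z k)).comap (DistribSMul.toAddMonoidHom N (g : Γ)) :=
      iSup₂_le fun k hk w hw =>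
        le_iSup₂ (f := fun k (_ : k ∈ S') => negV N (z k)) (σ g k) (hS' k hk) (hσ g k w hw)
    exact this hv
  have hY1 : ∀ (g : ↥X), g ∈ X1 → ∀ v ∈ Y, (g : Γ) • v ∈ Y := fun g hg v hv => by
    refine hmove' g O1 (fun k hk => ?_) v hv
    obtain ⟨y, hy, rfl⟩ := (hmemO k).1 hk
    exact (hmemO _).2 ⟨g * y, mul_mem hg hy, by rw [map_mul, Equiv.Perm.mul_apply]⟩
  letI : MulAction ↥X1 ↥Y :=
    { smul := fun g v => ⟨((g : ↥X) : Γ) • (v : N), hY1 g g.2 v v.2⟩
      one_smul := fun v => Subtype.ext (one_smul Γ (v : N))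
      mul_smul := fun g h v => Subtype.ext (mul_smul ((g : ↥X) : Γ) ((h : ↥X) : Γ) (v : N)) }
  obtain ⟨w0, hw0, hw0ne⟩ : ∃ w ∈ negV N (z i0), w ≠ 0 := by
    by_contra h
    push Not at h
    exact hne i0 (le_bot_iff.1 fun w hw => AddSubgroup.mem_bot.2 (h w hw))
  have hi0 : i0 ∈ O1 := (hmemO i0).2 ⟨1, one_mem _, by simp⟩
  have hdvd : p ∣ Nat.card ↥Y := by
    set w1 : ↥Y := ⟨w0, le_iSup₂ (f := fun k (_ : k ∈ O1) => negV N (z k)) i0 hi0 hw0⟩
    have h1 : addOrderOf w1 = p := by
      refine addOrderOf_eq_prime (Subtype.ext (exp w0)) fun h => hw0ne ?_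
      exact congrArg Subtype.val h
    exact h1 ▸ addOrderOf_dvd_natCard w1
  have h0 : (0 : ↥Y) ∈ MulAction.fixedPoints ↥X1 ↥Y := fun g => Subtype.ext (smul_zero ((g : ↥X) : Γ))
  obtain ⟨v, hv, hv0⟩ := (hXp.to_subgroup X1).exists_fixed_point_of_prime_dvd_card_of_fixed_point ↥Y hdvd h0
  have hvfix : (v : N) ∈ fixV N X' := by
    rintro _ ⟨g, hg, rfl⟩
    exact congrArg Subtype.val (hv ⟨g, hg⟩)
  -- the quotient of the fixed points has order at most `p`
  set C := fixV N X with hC
  set C' := fixV N X' with hC'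
  have hle2 : C.relIndex C' ≤ p := hrel ▸ hX.relIndex_le hX'X
  have hinv : ∀ g ∈ X, ∀ u ∈ C', g • u ∈ C' := by
    rintro g hg u hu _ ⟨a, ha, rfl⟩
    show (a : Γ) • g • u = g • u
    rw [← mul_smul, hXc a a.2 g hg, mul_smul, show (a : Γ) • u = u from hu _ ⟨a, ha, rfl⟩]
  -- so `x - 1` maps into the fixed points of `X`
  have hd : (x : Γ) • (v : N) - v ∈ C := by
    set C0 := C.addSubgroupOf C' with hC0
    let d : ↥C' → ↥C' := fun u => ⟨(x : Γ) • (u : N) - u, sub_mem (hinv _ x.2 _ u.2) u.2⟩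
    by_cases hvC : (v : N) ∈ C
    · rw [hvC _ x.2, sub_self]; exact zero_mem _
    have hpow : C.relIndex C' = p := by
      refine le_antisymm hle2 (Nat.le_of_dvd (Nat.pos_of_ne_zero AddSubgroup.index_ne_zero_of_finite) ?_)
      have hord : addOrderOf (QuotientAddGroup.mk (s := C0) (⟨v, hvfix⟩ : ↥C')) = p := by
        refine addOrderOf_eq_prime ?_ fun h => hvC (AddSubgroup.mem_addSubgroupOf.1 ((QuotientAddGroup.eq_zero_iff (⟨v, hvfix⟩ : ↥C')).1 h))
        rw [← QuotientAddGroup.mk_nsmul, show p • (⟨v, hvfix⟩ : ↥C') = 0 from Subtype.ext (exp v)]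
        rfl
      exact hord ▸ addOrderOf_dvd_natCard _
    haveI : Fact (Nat.card (↥C' ⧸ C0)).Prime := ⟨by
      rw [← AddSubgroup.index_eq_card]; exact (show C0.index = p from hpow) ▸ hp.out⟩
    have hq : Nat.card (↥C' ⧸ C0) = p := by rw [← AddSubgroup.index_eq_card]; exact hpow
    set qv : ↥C' ⧸ C0 := QuotientAddGroup.mk (⟨v, hvfix⟩ : ↥C')
    have hqv : qv ≠ 0 := fun h => hvC (AddSubgroup.mem_addSubgroupOf.1 ((QuotientAddGroup.eq_zero_iff (⟨v, hvfix⟩ : ↥C')).1 h))
    have hgen : AddSubgroup.zmultiples qv = ⊤ :=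
      zmultiples_eq_top_of_prime_card hq hqv
    have hxv : (x : Γ) • (v : N) ∈ C' := hinv _ x.2 _ hvfix
    obtain ⟨a, ha⟩ := AddSubgroup.mem_zmultiples_iff.1
      (hgen.ge (AddSubgroup.mem_top (QuotientAddGroup.mk (⟨_, hxv⟩ : ↥C') : ↥C' ⧸ C0)))
    have hc : (x : Γ) • (v : N) - a • (v : N) ∈ C := by
      rw [← QuotientAddGroup.mk_zsmul, eq_comm, QuotientAddGroup.eq_iff_sub_mem] at ha
      exact ha
    have key : ∀ n : ℕ, ((x : Γ) ^ n) • (v : N) - (a ^ n) • (v : N) ∈ C := by
      intro n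
      induction n with
      | zero => simp
      | succ n ih =>
        have e : ((x : Γ) ^ (n + 1)) • (v : N) - (a ^ (n + 1)) • (v : N) =
            ((x : Γ) • (((x : Γ) ^ n) • (v : N) - (a ^ n) • (v : N))) +
              (a ^ n) • ((x : Γ) • (v : N) - a • (v : N)) := by
          rw [smul_sub, ← mul_smul, ← pow_succ', smul_comm (x : Γ) (a ^ n) (v : N), zsmul_sub,
            ← mul_zsmul, pow_succ a n]
          abel
        rw [e]
        refine add_mem ?_ (zsmul_mem hc _)
        rw [ih _ x.2]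
        exact ih
    obtain ⟨e, he⟩ := hXp x
    have h2 := key (p ^ e)
    rw [show (x : Γ) ^ p ^ e = 1 from congrArg Subtype.val he, one_smul] at h2
    have h3 : ((p : ℤ) ∣ a ^ p ^ e - 1) := by
      by_contra hnd
      refine hvC ?_
      obtain ⟨s, t, hst⟩ := ((Nat.prime_iff_prime_int.1 hp.out).coprime_iff_not_dvd.2 hnd)
      have h4 : (v : N) = t • ((a ^ p ^ e - 1) • (v : N)) := by
        conv_lhs => rw [← one_zsmul (v : N), ← hst, add_zsmul, mul_zsmul, natCast_zsmul, exp,
          zsmul_zero, zero_add, mul_zsmul]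
      rw [h4, show (a ^ p ^ e - 1) • (v : N) = -((v : N) - a ^ p ^ e • (v : N)) by
        rw [sub_zsmul, one_zsmul]; abel]
      exact zsmul_mem (neg_mem h2) _
    have h4 : ((p : ℤ) ∣ a - 1) := by
      rw [← (ZMod.intCast_zmod_eq_zero_iff_dvd _ p)] at h3 ⊢
      push_cast at h3 ⊢
      rwa [ZMod.pow_card_pow] at h3
    obtain ⟨m, hm⟩ := h4
    have h5 : a • (v : N) = v := by
      rw [show a = 1 + (p : ℤ) * m by rw [← hm]; ring, add_zsmul, one_zsmul, mul_comm, mul_zsmul,
        natCast_zsmul, exp, zsmul_zero, add_zero]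
    rwa [h5] at hc
  have hquad : (x : Γ) • ((x : Γ) • (v : N)) - (x : Γ) • (v : N) = (x : Γ) • (v : N) - v := by
    rw [← smul_sub]
    exact hd _ x.2
  -- but the translates of the orbit are disjoint
  have hO : ∀ (g : ↥X), g ∉ X1 → ∀ k ∈ O1, σ g k ∉ O1 := by
    intro g hg k hk hk'
    obtain ⟨y, hy, rfl⟩ := (hmemO k).1 hk
    obtain ⟨y', hy', e⟩ := (hmemO _).1 hk'
    refine hg ?_
    have h1 : y'⁻¹ * g * y ∈ X1 := hle (by
      show σ (y'⁻¹ * g * y) i0 = i0
      rw [map_mul, map_mul, Equiv.Perm.mul_apply, Equiv.Perm.mul_apply, ← e, map_inv,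
        Equiv.Perm.inv_def, Equiv.symm_apply_apply])
    have := mul_mem (mul_mem hy' h1) (inv_mem hy)
    simpa [mul_assoc] using this
  have hx2 : x * x ∉ X1 := by
    intro h
    refine hxX1 ?_
    obtain ⟨k, hk⟩ := hp.out.odd_of_ne_two hp2
    have hxp : x ^ p ∈ X1 := by
      have := pow_index_mem X1 x
      rwa [hidx] at this
    rw [hk, pow_succ, pow_mul, sq] at hxp
    exact (X1.mul_mem_cancel_left (pow_mem h k)).1 hxp
  have hvz : ∀ k ∈ O1, z k • (v : N) = v := by
    intro k hk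
    have h1 : z k • ((x : Γ) • (v : N)) = (x : Γ) • (v : N) := by
      refine fixed_of_sum z hfix (S := O1.image (σ x))
        (hmove' x _ (fun j hj => Finset.mem_image_of_mem _ hj) v v.2) fun h => ?_
      obtain ⟨j, hj, rfl⟩ := Finset.mem_image.1 h
      exact hO x hxX1 j hj hk
    have h2 : z k • ((x : Γ) • ((x : Γ) • (v : N))) = (x : Γ) • ((x : Γ) • (v : N)) := by
      rw [← mul_smul (x : Γ) (x : Γ), ← Subgroup.coe_mul]
      refine fixed_of_sum z hfix (S := O1.image (σ (x * x)))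
        (hmove' (x * x) _ (fun j hj => Finset.mem_image_of_mem _ hj) v v.2) fun h => ?_
      obtain ⟨j, hj, rfl⟩ := Finset.mem_image.1 h
      exact hO (x * x) hx2 j hj hk
    have h3 : (v : N) = (x : Γ) • (v : N) + (x : Γ) • (v : N) - (x : Γ) • ((x : Γ) • (v : N)) := by
      rw [sub_eq_sub_iff_add_eq_add] at hquad
      rw [eq_sub_iff_add_eq, add_comm, hquad]
    conv_lhs => rw [h3]
    rw [smul_sub, smul_add, h1, h2, ← h3]
  exact hv0 (Subtype.ext (sum_eq_zero z hfix hp2 exp v.2 hvz)).symm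

/-- A setting has a `PSL₂` quotient. -/
theorem Setting.hasPSLQuotient (hp2 : p ≠ 2) (D : Setting p Γ N) : HasPSLQuotient p Γ := by
  classical
  set T := D.T
  obtain ⟨X0, hX0, hX0ne⟩ := D.Xne
  have hXT : ∀ X ∈ D.Xs, X ≤ (T : Subgroup Γ) := fun X hX => (D.Xle X hX).trans D.BT
  have hXp : ∀ X ∈ D.Xs, IsPGroup p X := fun X hX => T.isPGroup'.to_le (hXT X hX)
  have hineq : Nat.card N ≤ Nat.card X0 * Nat.card (fixP N X0) := by
    have h1 := D.Xbest X0 hX0 ⊥ bot_le
    rw [card_bot, one_mul] at h1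
    refine le_trans (Nat.le_of_eq ?_) h1
    exact (Nat.card_congr (Equiv.subtypeUnivEquiv fun v (g : Γ) (hg : g ∈ (⊥ : Subgroup Γ)) => by
      rw [mem_bot.1 hg, one_smul])).symm
  obtain ⟨A, -, hA⟩ := exists_isOff D.exp D.faith hX0ne (hXp X0 hX0) (D.Xcomm X0 hX0) hineq
  have hTne : ¬ (T : Subgroup Γ).Normal := fun hn => by
    have h1 : (T : Subgroup Γ) ≤ pCore p Γ := CfsgLib.Base.le_pCore (N := (T : Subgroup Γ)) T.isPGroup'
    rw [D.core] at h1
    exact hX0ne (le_bot_iff.1 ((hXT X0 hX0).trans h1))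
  have huniq : ∀ K, IsCoatom K → (T : Subgroup Γ) ≤ K → K = D.M := fun K hK hTK =>
    ((hK.le_iff.1 (D.min K (D.BT.trans hTK) hK.1)).resolve_left D.coatom.1).symm
  have hmin : Cfsg.IsPMinimal p Γ := by
    intro T'
    obtain ⟨g, hg⟩ := MulAction.exists_smul_eq Γ T T'
    have hT' : (T' : Subgroup Γ) = (T : Subgroup Γ).map (MulAut.conj g).toMonoidHom := by
      rw [← hg]
      exact CfsgLib.WeakCentral.coe_smul_sylow g T
    have hinv : ∀ K : Subgroup Γ, (K.map (MulAut.conj g⁻¹).toMonoidHom).map (MulAut.conj g).toMonoidHom = K :=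
      fun K => CfsgLib.Techniques.cj_cj_inv g K
    refine ⟨fun hn => hTne ?_, D.M.map (MulAut.conj g).toMonoidHom,
      ⟨(OrderIso.isCoatom_iff (MulAut.conj g).mapSubgroup D.M).2 D.coatom, ?_⟩, ?_⟩
    · rw [hT'] at hn
      have e : (T : Subgroup Γ) = ((T : Subgroup Γ).map (MulAut.conj g).toMonoidHom).map
          (MulAut.conj g⁻¹).toMonoidHom := (CfsgLib.Techniques.cj_inv_cj g _).symm
      rw [e]
      exact hn.map _ (MulAut.conj g⁻¹).surjective
    · rw [hT']; exact map_mono D.TM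
    · rintro K ⟨hK, hTK⟩
      have h1 := huniq (K.map (MulAut.conj g⁻¹).toMonoidHom)
        ((OrderIso.isCoatom_iff (MulAut.conj g⁻¹).mapSubgroup K).2 hK) (by
          have := map_mono (f := (MulAut.conj g⁻¹).toMonoidHom) hTK
          rw [hT'] at this
          exact (CfsgLib.Techniques.cj_inv_cj g _).ge.trans this)
      rw [← h1, hinv]
  obtain ⟨Q⟩ := VData.exists_vdecomp (⟨hmin, D.core, D.faith, D.exp⟩ : VData p Γ N) T hA
  set E : Subgroup Γ := ⨆ i, Q.E i with hE
  haveI : E.Normal := Q.normal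
  have hlin : ∀ i, ∃ n, IsLinearOn N p n (Q.E i) := fun i => by
    obtain ⟨n, -, h | h⟩ := Q.kind i
    · exact ⟨n, h⟩
    · exact absurd h.1 hp2
  choose n hlin using hlin
  choose F iF iF' hF ρ0 ψ0 hρ hψs hψ0 hψ using hlin
  haveI : ∀ i, CharP (F i) p := fun i => charP_of_card_eq_prime_pow (hF i)
  let ρ : ∀ i, ↥(Q.E i) ≃* SL(2, F i) := fun i => MulEquiv.ofBijective (ρ0 i) (hρ i)
  let zE : ∀ i, ↥(Q.E i) := fun i => (ρ i).symm (-1)
  let z : Fin Q.r → Γ := fun i => (zE i : Γ)
  let W : Fin Q.r → AddSubgroup N := fun i => negV N (z i)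
  have hsq : ∀ i, z i * z i = 1 := fun i => by
    show ((zE i * zE i : ↥(Q.E i)) : Γ) = 1
    rw [← map_mul, neg_one_mul, neg_neg, map_one, OneMemClass.coe_one]
  have hWM : ∀ i, W i ≤ moveP N (Q.E i) := fun i v hv => by
    obtain ⟨hh, hhalf⟩ := exists_half hp2 D.exp
    have h1 : z i • (-(hh • v)) - (-(hh • v)) = v := by
      rw [smul_neg, smul_comm (z i) hh v, show z i • v = -v from hv, smul_neg,
        neg_neg, sub_neg_eq_add, hhalf]
    rw [← h1]
    exact move_mem (zE i).2 _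
  have hsepW : ∀ i j, i ≠ j → ∀ v ∈ W i, ∀ e ∈ Q.E j, e • v = v := fun i j hij v hv e he =>
    Q.sep i j hij (hWM i hv) e he
  have hzfix : ∀ i j, i ≠ j → ∀ v ∈ negV N (z i), z j • v = v := fun i j hij v hv =>
    hsepW i j hij v hv _ (zE j).2
  have hcenE : ∀ i (e : ↥(Q.E i)), zE i * e = e * zE i := fun i e => by
    refine (ρ i).injective ?_
    rw [map_mul, map_mul, MulEquiv.apply_symm_apply, neg_one_mul, mul_neg_one]
  have hWE : ∀ i j, ∀ e ∈ Q.E j, ∀ v ∈ W i, e • v ∈ W i := by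
    intro i j e he v hv
    by_cases hij : i = j
    · subst hij
      show z i • e • v = -(e • v)
      have h1 : z i * e = e * z i := congrArg Subtype.val (hcenE i ⟨e, he⟩)
      rw [← mul_smul, h1, mul_smul, show z i • v = -v from hv, smul_neg]
    · rw [hsepW i j hij v hv e he]; exact hv
  have hE1 : ∀ i, Q.E i ≤ E := fun i => le_iSup Q.E i
  -- the natural module
  let ψW : ∀ i, ↥(W i) →+ (Fin 2 → F i) := fun i => (ψ0 i).comp (AddSubgroup.inclusion (hWM i))
  have hψact : ∀ i (e : ↥(Q.E i)) (v : ↥(W i)),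
      ψW i ⟨(e : Γ) • (v : N), hWE i i e e.2 v v.2⟩ = (ρ i e).1.mulVec (ψW i v) := by
    intro i e v
    obtain ⟨w, hw, hw'⟩ := hψ i e (AddSubgroup.inclusion (hWM i) v)
    show ψ0 i _ = (ρ0 i e).1.mulVec (ψ0 i _)
    rw [← hw']
    congr 1
    exact Subtype.ext hw.symm
  have hzψ : ∀ i (u : ↥(moveP N (Q.E i))) (hu : z i • (u : N) ∈ moveP N (Q.E i)),
      ψ0 i ⟨z i • (u : N), hu⟩ = -ψ0 i u := by
    intro i u hu
    obtain ⟨w, hw, hw'⟩ := hψ i (zE i) u
    rw [show (⟨z i • (u : N), hu⟩ : ↥(moveP N (Q.E i))) = w from Subtype.ext hw.symm, hw',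
      show ρ0 i (zE i) = -1 from (ρ i).apply_symm_apply (-1), SpecialLinearGroup.coe_neg,
      neg_mulVec]
    exact congrArg Neg.neg (one_mulVec _)
  have hψWinj : ∀ i, Function.Injective (ψW i) := fun i => by
    refine (injective_iff_map_eq_zero _).2 fun v hv => Subtype.ext ?_
    refine eq_zero_of_two hp2 D.exp ?_
    have h1 : z i • (v : N) = v := (hψ0 i _).1 hv (z i) (zE i).2
    have h2 : z i • (v : N) = -v := v.2
    rw [h2] at h1
    exact neg_eq_iff_add_eq_zero.1 h1
  have hψWsurj : ∀ i, Function.Surjective (ψW i) := fun i u => by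
    obtain ⟨hh, hhalf⟩ := exists_half hp2 D.exp
    obtain ⟨m, hm⟩ := hψs i u
    have hzm : z i • (m : N) ∈ moveP N (Q.E i) := smul_mem_moveP (zE i).2 m.2
    have hmem : hh • ((m : N) - z i • (m : N)) ∈ W i := by
      show z i • _ = -_
      rw [smul_comm (z i) hh, smul_sub, ← mul_smul, hsq, one_smul, ← smul_neg, neg_sub]
    refine ⟨⟨_, hmem⟩, ?_⟩
    have : AddSubgroup.inclusion (hWM i) ⟨_, hmem⟩ = hh • (m - ⟨_, hzm⟩) := Subtype.ext rfl
    show ψ0 i _ = u
    rw [this, map_nsmul, map_sub, hzψ, sub_neg_eq_add, hm, nsmul_add]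
    funext j
    have hFp : ∀ y : F i, p • y = 0 := fun y => by rw [nsmul_eq_mul, CharP.cast_eq_zero, zero_mul]
    have hpk : ((hh + hh : ℕ) : ℕ) • u j = u j := by
      obtain ⟨k, hk⟩ : ∃ k, hh + hh = p * k + 1 := by
        obtain ⟨v0, hv0⟩ : ∃ v0 : N, v0 ≠ 0 := by
          by_contra hall
          push Not at hall
          refine hX0ne ((Subgroup.eq_bot_iff_forall _).2 fun g _ => D.faith g fun v => ?_)
          rw [hall v, smul_zero]
        have hord : addOrderOf v0 = p := addOrderOf_eq_prime (D.exp v0) hv0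
        have h1 : (hh + hh) • v0 = v0 := by rw [add_nsmul]; exact hhalf v0
        have hpos : 1 ≤ hh + hh := by
          by_contra h0
          rw [show hh + hh = 0 by omega, zero_nsmul] at h1
          exact hv0 h1.symm
        have hd : p ∣ hh + hh - 1 := by
          rw [← hord, addOrderOf_dvd_iff_nsmul_eq_zero]
          have h2 : (hh + hh - 1) • v0 + v0 = v0 := by
            rw [← succ_nsmul, Nat.sub_add_cancel hpos, h1]
          exact add_eq_right.1 h2
        obtain ⟨k, hk⟩ := hd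
        exact ⟨k, by omega⟩
      rw [hk, succ_nsmul, mul_nsmul, hFp, smul_zero, zero_add]
    rw [Pi.add_apply, Pi.smul_apply, ← add_nsmul]
    exact hpk
  let ψe : ∀ i, ↥(W i) ≃+ (Fin 2 → F i) := fun i =>
    AddEquiv.ofBijective (ψW i) ⟨hψWinj i, hψWsurj i⟩
  have hWne : ∀ i, negV N (z i) ≠ ⊥ := fun i hb => by
    have h1 : (ψe i).symm ![1, 0] = 0 :=
      Subtype.ext (AddSubgroup.mem_bot.1 (hb.le ((ψe i).symm ![1, 0]).2))
    have h2 := congrArg (ψe i) h1
    rw [AddEquiv.apply_symm_apply, map_zero] at h2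
    simpa using congrFun h2 0
  -- the factors are not in the maximal subgroup
  have hnotM : ∀ i, ¬ Q.E i ≤ D.M := fun i hle => by
    refine D.coatom.1 (top_le_iff.1 (Q.top ▸ sup_le (iSup_le fun j => ?_) D.TM))
    obtain ⟨t, ht, e⟩ := Q.trans i j
    rw [← e]
    rintro _ ⟨y, hy, rfl⟩
    exact mul_mem (mul_mem (D.TM ht) (hle hy)) (inv_mem (D.TM ht))
  -- everything is permuted
  have hall0 : ∀ g, (∀ k, ∀ v ∈ W k, g • v = v) → g ∈ E → g = 1 := by
    intro g hg hgE
    refine D.faith g fun v => ?_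
    obtain ⟨c, hc, m, hm, rfl⟩ := AddSubgroup.mem_sup.1 (Q.span.ge (AddSubgroup.mem_top v))
    rw [smul_add, hc g hgE]
    congr 1
    have : (⨆ i, moveP N (Q.E i)) ≤ fixV N (zpowers g) := by
      refine iSup_le fun i u hu => ?_
      suffices g • u = u from fun x hx =>
        (zpowers_le.2 (show g ∈ MulAction.stabilizer Γ u from this) : _ ≤ _) hx
      obtain ⟨hh, hhalf⟩ := exists_half hp2 D.exp
      have hzu : z i • u ∈ moveP N (Q.E i) := smul_mem_moveP (zE i).2 hu
      set w := hh • (u - z i • u) with hw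
      have hwW : w ∈ W i := by
        show z i • _ = -_
        rw [hw, smul_comm (z i) hh, smul_sub, ← mul_smul, hsq, one_smul, ← smul_neg, neg_sub]
      have hfu : z i • (u - w) = u - w := by
        rw [smul_sub, show z i • w = -w from hwW, sub_neg_eq_add, hw, smul_sub]
        conv_rhs => arg 1; rw [← hhalf u]
        conv_lhs => arg 1; rw [← hhalf (z i • u)]
        abel
      have hmv : u - w ∈ moveP N (Q.E i) := sub_mem hu (hWM i hwW)
      have hcz : ψ0 i ⟨u - w, hmv⟩ = 0 := by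
        have h1 := hzψ i ⟨u - w, hmv⟩ (smul_mem_moveP (zE i).2 hmv)
        have h2 : (⟨z i • (u - w), smul_mem_moveP (zE i).2 hmv⟩ : ↥(moveP N (Q.E i))) = ⟨u - w, hmv⟩ :=
          Subtype.ext hfu
        rw [h2] at h1
        funext j
        have h3 := congrFun h1 j
        rw [Pi.neg_apply, eq_neg_iff_add_eq_zero, ← two_mul] at h3
        refine (mul_eq_zero.1 h3).resolve_left fun h4 => hp2 ?_
        have h5 : ((2 : ℕ) : F i) = 0 := by exact_mod_cast h4
        rw [CharP.cast_eq_zero_iff (F i) p, Nat.prime_dvd_prime_iff_eq hp.out Nat.prime_two] at h5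
        exact h5
      have hcE : u - w ∈ fixV N E := by
        intro e he
        have hle : E ≤ MulAction.stabilizer Γ (u - w) := iSup_le fun j b hb => by
          rcases eq_or_ne i j with rfl | hne
          · exact (hψ0 i _).1 hcz b hb
          · exact Q.sep i j hne hmv b hb
        exact hle he
      rw [← sub_add_cancel u w, smul_add, hcE g hgE, hg i w hwW]
    exact this hm g (mem_zpowers g)
  have hcard : ∀ i j, Nat.card ↥(W i) = Nat.card ↥(W j) := by
    intro i j
    obtain ⟨t, -, e⟩ := Q.trans i j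
    have h1 : Nat.card ↥(Q.E i) = Nat.card ↥(Q.E j) := by
      rw [← e]; exact (CfsgLib.LocalEven.FFPMin.card_cj t _).symm
    rw [Nat.card_congr (ρ i).toEquiv, Nat.card_congr (ρ j).toEquiv] at h1
    have hcardF : Nat.card (F i) = Nat.card (F j) := by
      rw [CfsgLib.Classical.card_SL_two, CfsgLib.Classical.card_SL_two] at h1
      by_contra hne
      rcases lt_or_gt_of_ne hne with h | h
      · refine h1.not_lt ?_
        gcongr
        exact Nat.one_le_pow _ _ Nat.card_pos
      · refine h1.not_gt ?_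
        gcongr
        exact Nat.one_le_pow _ _ Nat.card_pos
    rw [Nat.card_congr (ψe i).toEquiv, Nat.card_congr (ψe j).toEquiv, Nat.card_fun, Nat.card_fun,
      hcardF]
  have hperm : ∀ g : Γ, ∀ i, ∃ k, ∀ v ∈ W i, g • v ∈ W k := by
    intro g i
    set z' := g * z i * g⁻¹ with hz'
    have hz'E : z' ∈ E := (inferInstance : E.Normal).conj_mem _ (hE1 i (zE i).2) g
    have hcomm : ∀ e ∈ E, z' * e = e * z' := by
      intro e he
      have h1 : ∀ y ∈ E, z i * y = y * z i := by
        intro y hy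
        have hle : E ≤ centralizer {z i} := iSup_le fun j b hb => by
          rw [mem_centralizer_singleton_iff]
          rcases eq_or_ne i j with rfl | hne
          · exact (congrArg Subtype.val (hcenE i ⟨b, hb⟩)).symm
          · exact (Q.commute i j hne _ (zE i).2 b hb).symm
        exact (mem_centralizer_singleton_iff.1 (hle hy)).symm
      have h2 := h1 (g⁻¹ * e * g) (by
        have := (inferInstance : E.Normal).conj_mem e he g⁻¹
        rwa [inv_inv] at this)
      calc z' * e = g * (z i * (g⁻¹ * e * g)) * g⁻¹ := by rw [hz']; group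
        _ = g * (g⁻¹ * e * g * z i) * g⁻¹ := by rw [h2]
        _ = e * z' := by rw [hz']; group
    -- on each block `z'` is a sign
    have hpr : ∀ k, ∀ y ∈ E, ∃ e : ↥(Q.E k), ∀ v ∈ W k, y • v = (e : Γ) • v := by
      intro k y hy
      induction hy using Subgroup.iSup_induction' with
      | hp j y hy =>
        rcases eq_or_ne k j with rfl | hne
        · exact ⟨⟨y, hy⟩, fun v _ => rfl⟩
        · exact ⟨1, fun v hv => by rw [hsepW k j hne v hv y hy, OneMemClass.coe_one, one_smul]⟩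
      | h1 => exact ⟨1, fun v _ => by rw [OneMemClass.coe_one]⟩
      | hmul a b ha hb iha ihb =>
        obtain ⟨e1, h1⟩ := iha
        obtain ⟨e2, h2⟩ := ihb
        exact ⟨e1 * e2, fun v hv => by
          rw [mul_smul, h2 v hv, h1 _ (hWE k k e2 e2.2 v hv), coe_mul, mul_smul]⟩
    have hsign : ∀ k, (∀ v ∈ W k, z' • v = v) ∨ ∀ v ∈ W k, z' • v = -v := by
      intro k
      obtain ⟨e, he⟩ := hpr k z' hz'E
      have hc : ρ k e ∈ Subgroup.center SL(2, F k) := by
        rw [Subgroup.mem_center_iff]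
        intro s
        refine Subtype.ext (Matrix.ext fun a b => ?_)
        obtain ⟨y, rfl⟩ := (ρ k).surjective s
        have key : ∀ v : Fin 2 → F k, (ρ k y * ρ k e).1.mulVec v = (ρ k e * ρ k y).1.mulVec v := by
          intro v
          obtain ⟨u, rfl⟩ := (ψe k).surjective v
          rw [← map_mul, ← map_mul]
          refine ((hψact k (y * e) u).symm.trans ?_).trans (hψact k (e * y) u)
          congr 1
          refine Subtype.ext ?_
          show ((y * e : ↥(Q.E k)) : Γ) • (u : N) = ((e * y : ↥(Q.E k)) : Γ) • (u : N)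
          rw [coe_mul, coe_mul, mul_smul, mul_smul, ← he u u.2, ← he _ (hWE k k y y.2 u u.2),
            ← mul_smul, ← mul_smul, hcomm y (hE1 k y.2)]
        have := congrFun (key (Pi.single b 1)) a
        rwa [mulVec_single_one, mulVec_single_one] at this
      obtain ⟨r, hr2, hr⟩ := Matrix.SpecialLinearGroup.mem_center_iff.1 hc
      simp only [Fintype.card_fin] at hr2
      have hval : ∀ u : ↥(W k), ψe k ⟨(e : Γ) • (u : N), hWE k k e e.2 u u.2⟩ = r • ψe k u := by
        intro u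
        show ψW k _ = _
        rw [hψact, ← hr, Matrix.scalar_apply, ← Matrix.smul_one_eq_diagonal, smul_mulVec, one_mulVec]
        rfl
      rcases sq_eq_one_iff.1 hr2 with h | h
      · refine Or.inl fun v hv => ?_
        have h1 := hval ⟨v, hv⟩
        rw [h, one_smul] at h1
        rw [he v hv]
        exact congrArg Subtype.val ((ψe k).injective h1)
      · refine Or.inr fun v hv => ?_
        have h1 := hval ⟨v, hv⟩
        rw [h, neg_one_smul, ← map_neg] at h1
        rw [he v hv]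
        exact congrArg Subtype.val ((ψe k).injective h1)
    obtain ⟨k, hk⟩ : ∃ k, ∀ v ∈ W k, z' • v = -v := by
      by_contra hno
      push Not at hno
      have h1 : z' = 1 := hall0 z' (fun k => (hsign k).resolve_right fun h => by
        obtain ⟨v, hv, hv'⟩ := hno k
        exact hv' (h v hv)) hz'E
      have h2 : z i = 1 := by
        rw [hz', conj_eq_one_iff] at h1
        exact h1
      obtain ⟨w, hw, hw0⟩ : ∃ w ∈ W i, w ≠ 0 := by
        by_contra h
        push Not at h
        exact hWne i (le_bot_iff.1 fun w hw => AddSubgroup.mem_bot.2 (h w hw))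
      have h3 : z i • w = -w := hw
      rw [h2, one_smul, eq_neg_iff_add_eq_zero] at h3
      exact hw0 (eq_zero_of_two hp2 D.exp h3)
    refine ⟨k, fun v hv => ?_⟩
    let f : ↥(W k) → ↥(W i) := fun w => ⟨g⁻¹ • (w : N), by
      show z i • g⁻¹ • (w : N) = -(g⁻¹ • (w : N))
      have := hk w w.2
      rw [hz', mul_smul, mul_smul, smul_eq_iff_eq_inv_smul, smul_neg] at this
      exact this⟩
    have hf : Function.Injective f := fun a b h =>
      Subtype.ext (smul_left_cancel g⁻¹ (congrArg Subtype.val h))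
    obtain ⟨w, hw⟩ := (hf.bijective_of_nat_card_le (hcard i k).le).2 ⟨v, hv⟩
    have hv' : g⁻¹ • (w : N) = v := congrArg Subtype.val hw
    rw [← hv', smul_inv_smul]
    exact w.2
  -- the permutation
  have huniqW : ∀ (g : Γ) i k k', (∀ v ∈ W i, g • v ∈ W k) → (∀ v ∈ W i, g • v ∈ W k') → k = k' := by
    intro g i k k' h1 h2
    by_contra hne
    obtain ⟨w, hw, hw0⟩ : ∃ w ∈ W i, w ≠ 0 := by
      by_contra h
      push Not at h
      exact hWne i (le_bot_iff.1 fun w hw => AddSubgroup.mem_bot.2 (h w hw))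
    have h3 := hzfix k' k (Ne.symm hne) _ (h2 w hw)
    rw [show z k • g • w = -(g • w) from h1 w hw, neg_eq_iff_add_eq_zero] at h3
    exact hw0 (smul_left_cancel g ((eq_zero_of_two hp2 D.exp h3).trans (smul_zero g).symm))
  choose σ0 hσ0 using hperm
  let σ : Γ →* Equiv.Perm (Fin Q.r) := MonoidHom.mk' (fun g =>
      { toFun := σ0 g
        invFun := σ0 g⁻¹
        left_inv := fun i => (huniqW 1 i i (σ0 g⁻¹ (σ0 g i)) (fun v hv => by rwa [one_smul])
          (fun v hv => by rw [← inv_mul_cancel g, mul_smul]; exact hσ0 _ _ _ (hσ0 g i v hv))).symm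
        right_inv := fun i => (huniqW 1 i i (σ0 g (σ0 g⁻¹ i)) (fun v hv => by rwa [one_smul])
          (fun v hv => by rw [← mul_inv_cancel g, mul_smul]; exact hσ0 _ _ _ (hσ0 g⁻¹ i v hv))).symm })
    fun g h => Equiv.ext fun i => huniqW (g * h) i _ _ (hσ0 _ _) fun v hv => by
      rw [mul_smul]; exact hσ0 _ _ _ (hσ0 h i v hv)
  have hXfix : ∀ X ∈ D.Xs, ∀ x ∈ X, ∀ i, ∀ v ∈ W i, x • v ∈ W i := by
    intro X hX x hx i v hv
    have := perm_trivial hp2 D.exp z hzfix hWne (hXp X hX) (D.Xcomm X hX) (D.Xbest X hX)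
      (σ.comp X.subtype) (fun y j w hw => hσ0 (y : Γ) j w hw) ⟨x, hx⟩ i
    have h1 := hσ0 x i v hv
    rwa [show σ0 x i = i from this] at h1
  -- there is just one block
  have hr1 : ∀ i j : Fin Q.r, i = j := by
    intro i j
    by_contra hij
    let U : Subgroup Γ :=
      { carrier := {g | ∀ v, v ∈ W j ↔ g • v ∈ W j}
        one_mem' := fun v => by rw [one_smul]
        mul_mem' := fun {a b} ha hb v => by rw [mul_smul, ← ha, ← hb]
        inv_mem' := fun {a} ha v => by rw [ha (a⁻¹ • v), smul_inv_smul] }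
    set J : Subgroup Γ := sSup D.Xs
    have hJU : J ≤ U := sSup_le fun X hX x hx v =>
      ⟨hXfix X hX x hx j v, fun h => by
        have := hXfix X hX x⁻¹ (inv_mem hx) j _ h
        rwa [inv_smul_smul] at this⟩
    have hJp : IsPGroup p J := T.isPGroup'.to_le (sSup_le hXT)
    letI : MulAction ↥J ↥(W j) :=
      { smul := fun g v => ⟨(g : Γ) • (v : N), (hJU g.2 v).1 v.2⟩
        one_smul := fun v => Subtype.ext (one_smul Γ (v : N))
        mul_smul := fun g h v => Subtype.ext (mul_smul (g : Γ) (h : Γ) (v : N)) }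
    have hdvd : p ∣ Nat.card ↥(W j) := by
      obtain ⟨m, hm, hcardj⟩ := FiniteField.card (F j) p
      rw [Nat.card_congr (ψe j).toEquiv, Nat.card_fun, Nat.card_eq_fintype_card (α := F j), hcardj]
      exact dvd_pow (dvd_pow_self p m.ne_zero) (by simp)
    have h0 : (0 : ↥(W j)) ∈ MulAction.fixedPoints ↥J ↥(W j) := fun g =>
      Subtype.ext (smul_zero (g : Γ))
    obtain ⟨v, hv, hv0⟩ := hJp.exists_fixed_point_of_prime_dvd_card_of_fixed_point ↥(W j) hdvd h0
    set St := MulAction.stabilizer Γ (v : N)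
    have hB : D.B ≤ St := fun b hb => D.Bfix (v : N)
      (fun X hX x hx => congrArg Subtype.val (hv ⟨x, le_sSup hX hx⟩)) b hb
    have hEi : Q.E i ≤ St := fun e he => hsepW j i (Ne.symm hij) v v.2 e he
    have hne : St ≠ ⊤ := fun h => by
      have h1 : z j • (v : N) = v := h.ge (mem_top (z j))
      rw [show z j • (v : N) = -v from v.2, neg_eq_iff_add_eq_zero] at h1
      exact hv0 (Subtype.ext (eq_zero_of_two hp2 D.exp h1)).symm
    exact hnotM i (hEi.trans (D.min St hB hne))
  obtain ⟨i⟩ : Nonempty (Fin Q.r) := ⟨⟨0, Q.r_pos⟩⟩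
  have hEi : E = Q.E i := le_antisymm (iSup_le fun j => by rw [hr1 j i]) (le_iSup Q.E i)
  haveI : (Q.E i).Normal := hEi ▸ (inferInstance : E.Normal)
  have hgen : Q.E i ⊔ D.B = ⊤ := by
    by_contra hne
    exact hnotM i (le_sup_left.trans (D.min _ le_sup_right hne))
  have hWinv : ∀ g : Γ, ∀ w ∈ W i, g • w ∈ W i := fun g w hw => by
    have := hσ0 g i w hw
    rwa [hr1 (σ0 g i) i] at this
  obtain ⟨K, hK, ⟨e⟩⟩ := one_block hp2 T.isPGroup' D.BT D.Xs
    (fun X hX => ⟨hXT X hX, D.Xbest X hX⟩) D.Bfix (Q.E i) hgen (W i) hWinv (ρ i) (ψe i) (hψact i)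
  refine ⟨F i, iF i, iF' i, n i, hF i,
    ((QuotientGroup.mk' _).comp e.toMonoidHom).comp (QuotientGroup.mk' K), ?_⟩
  exact ((QuotientGroup.mk'_surjective _).comp e.surjective).comp (QuotientGroup.mk'_surjective K)

end CfsgLib.CharTransfer
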