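import Cfsg.Agent.Lib.Techniques.MinimalFailure
import Cfsg.Agent.Lib.CharTransfer.Baumann
import Cfsg.Agent.Lib.LocalEven.GN.VJoinIso

/-!
The two functors: the centre, and the join of all `V` of the Baumann subgroup with its centraliser.
-/

set_option autoImplicit false
set_option linter.unusedSectionVars false
set_option linter.style.haveILetI false

namespace CfsgLib.CharTransfer

open Cfsg Subgroup CfsgLib.Techniques
open CfsgLib.LocalEven.Push (jay)
open CfsgLib.LocalEven.CD (zOf map_center_eq_zOf)
open CfsgLib.LocalEven.GN (sig map_sig sig_char sig_ne_bot map_sig_range center_ne_bot')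

universe u

variable {p : ℕ}

/-- The second subgroup, inside the ambient group. -/
def wImg {G : Type u} [Group G] (p : ℕ) (S : Subgroup G) : Subgroup G :=
  (sig p ↥(bau S)).map (bau S).subtype

/-- The centre, as a functor. -/
def centerFun (Q : Type u) [Group Q] : Subgroup Q := Subgroup.center Q

/-- The second functor. -/
def wSub (p : ℕ) (Q : Type u) [Group Q] : Subgroup Q := wImg p (⊤ : Subgroup Q)

theorem wImg_le {G : Type u} [Group G] (S : Subgroup G) : wImg p S ≤ bau S := map_subtype_le _

theorem wImg_map {G X : Type u} [Group G] [Group X] {f : X →* G} (hf : Function.Injective f)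
    (R : Subgroup X) : wImg p (R.map f) = (wImg p R).map f := by
  rw [wImg, wImg, map_map]
  refine (map_sig_range (τ := f.comp (bau R).subtype) (hf.comp (bau R).subtype_injective) ?_).symm
  rw [MonoidHom.range_comp, range_subtype, map_bau f hf]

theorem bau_ne_bot {G : Type u} [Group G] [Finite G] {S : Subgroup G} (hS : S ≠ ⊥) :
    bau S ≠ ⊥ := fun hb => by
  obtain ⟨A, hA⟩ := CfsgLib.LocalEven.Push.exists_mas (S := S)
  have hA0 : A = ⊥ :=
    le_bot_iff.1 (hb ▸ (CfsgLib.LocalEven.Push.le_jay hA).trans (jay_le_bau _))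
  refine hS (le_bot_iff.1 fun x hx => ?_)
  have := CfsgLib.LocalEven.Push.mas_cen hA
  rw [hA0] at this
  exact this.le ⟨hx, fun y hy => by rw [mem_bot.1 hy]; simp⟩

theorem wImg_ne_bot {G : Type u} [Group G] [Finite G] [Fact p.Prime] {S : Subgroup G}
    (hS : IsPGroup p S) (hne : S ≠ ⊥) : wImg p S ≠ ⊥ := by
  haveI := (nontrivial_iff_ne_bot _).2 (bau_ne_bot hne)
  rw [wImg, Ne, map_eq_bot_iff_of_injective _ (bau S).subtype_injective]
  exact sig_ne_bot (hS.to_le (bau_le S))

theorem centerFun_isCharP [Fact p.Prime] : IsCharPFunctor.{u} p (fun Q [Group Q] => centerFun Q) :=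
  ⟨fun Q _ _ hQ _ => center_ne_bot' hQ, fun Q R _ _ _ _ φ => CfsgLib.LocalEven.GN.map_centre φ⟩

theorem wSub_isCharP [Fact p.Prime] : IsCharPFunctor.{u} p (fun Q [Group Q] => wSub p Q) := by
  refine ⟨fun Q _ _ hQ hnt => wImg_ne_bot (hQ.to_subgroup _) top_ne_bot, fun Q R _ _ _ _ φ => ?_⟩
  show (wImg p ⊤).map φ.toMonoidHom = wImg p ⊤
  rw [← wImg_map φ.injective, map_top_of_surjective _ φ.surjective]

theorem inducedFunctor_center {G : Type u} [Group G] (S : Subgroup G) :
    inducedFunctor (fun Q [Group Q] => centerFun Q) S = zOf S := map_center_eq_zOf S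

theorem inducedFunctor_wSub {G : Type u} [Group G] (S : Subgroup G) :
    inducedFunctor (fun Q [Group Q] => wSub p Q) S = wImg p S := by
  show (wImg p (⊤ : Subgroup ↥S)).map S.subtype = _
  rw [← wImg_map S.subtype_injective, ← MonoidHom.range_eq_map, range_subtype]

theorem normalizer_le_wImg {G : Type u} [Group G] [Finite G] (S : Subgroup G) :
    normalizer (S : Set G) ≤ normalizer (wImg p S : Set G) := by
  intro g hg
  refine mem_normalizer_iff_map_conj_eq.2 ?_
  have h := wImg_map (p := p) (f := (MulAut.conj g).toMonoidHom) (MulAut.conj g).injective S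
  have hh : S.map (MulAut.conj g).toMonoidHom = S := mem_normalizer_iff_map_conj_eq.1 hg
  rw [hh] at h
  exact h.symm

theorem normalizer_bau_le_wImg {G : Type u} [Group G] [Finite G] (S : Subgroup G) :
    normalizer (bau S : Set G) ≤ normalizer (wImg p S : Set G) := by
  intro g hg
  refine mem_normalizer_iff_map_conj_eq.2 ?_
  rw [wImg, map_map]
  refine map_sig_range (τ := (MulAut.conj g).toMonoidHom.comp (bau S).subtype)
    ((MulAut.conj g).injective.comp (bau S).subtype_injective) ?_
  rw [MonoidHom.range_comp, range_subtype]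
  exact mem_normalizer_iff_map_conj_eq.1 hg

end CfsgLib.CharTransfer
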