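import Mathlib
import Cfsg.Agent.Lib.CharTransfer.WFun

/-!
Transfer and the characteristic subgroups of a Sylow subgroup: reduction to a minimal failure.
-/

set_option autoImplicit false
set_option linter.unusedSectionVars false
set_option linter.style.haveILetI false

namespace CfsgLib.CharTransfer

open Cfsg Subgroup CfsgLib.Techniques
open scoped commutatorElement

universe u

variable {p : ℕ} [Fact p.Prime]

/-- All isomorphism-invariant functors. -/
def allFun (p : ℕ) : Set (∀ (Q : Type u) [Group Q], Subgroup Q) :=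
  {W | IsCharPFunctor.{u} p W}

theorem allFun_spec : ∀ W ∈ allFun.{u} p, IsCharPFunctor.{u} p W := fun _ hW => hW

/-- The functor carrying the subgroup `K` of `P` to every copy of `P`. -/
noncomputable def imgFun {P : Type u} [Group P] (K : Subgroup P) (Q : Type u) [Group Q] :
    Subgroup Q :=
  open _root_.Classical in if h : Nonempty (P ≃* Q) then K.map h.some.toMonoidHom else ⊤

theorem imgFun_eq {P : Type u} [Group P] {K : Subgroup P} [hK : K.Characteristic] {Q : Type u}
    [Group Q] (e : P ≃* Q) : imgFun K Q = K.map e.toMonoidHom := by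
  have h : Nonempty (P ≃* Q) := ⟨e⟩
  rw [imgFun, dif_pos h]
  set f := h.some
  have h1 := (Subgroup.characteristic_iff_map_eq.1 hK) (e.trans f.symm)
  conv_lhs => rw [← h1, Subgroup.map_map]
  congr 1
  ext x
  simp

theorem imgFun_isCharP {P : Type u} [Group P] {K : Subgroup P} [K.Characteristic] (hK : K ≠ ⊥) :
    IsCharPFunctor.{u} p (fun Q [Group Q] => imgFun K Q) := by
  refine ⟨fun Q _ _ _ hnt => ?_, fun Q R _ _ _ _ φ => ?_⟩
  · by_cases h : Nonempty (P ≃* Q)
    · obtain ⟨e⟩ := h
      show imgFun K Q ≠ ⊥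
      rw [imgFun_eq e, Ne, map_eq_bot_iff_of_injective _ e.injective]
      exact hK
    · show imgFun K Q ≠ ⊥
      rw [imgFun, dif_neg h]
      exact top_ne_bot
  · show (imgFun K Q).map φ.toMonoidHom = imgFun K R
    by_cases h : Nonempty (P ≃* Q)
    · obtain ⟨e⟩ := h
      rw [imgFun_eq e, imgFun_eq (e.trans φ), Subgroup.map_map]
      rfl
    · have h' : ¬ Nonempty (P ≃* R) := fun ⟨e⟩ => h ⟨e.trans φ.symm⟩
      rw [imgFun, dif_neg h, imgFun, dif_neg h', Subgroup.map_top_of_surjective _ φ.surjective]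

variable {G : Type u} [Group G] [Finite G]

theorem inducedFunctor_imgFun (S : Sylow p G) (K : Subgroup ↥(S : Subgroup G)) [K.Characteristic] :
    inducedFunctor (fun Q [Group Q] => imgFun K Q) (S : Subgroup G) =
      K.map (S : Subgroup G).subtype := by
  show (imgFun K ↥(S : Subgroup G)).map _ = _
  rw [imgFun_eq (MulEquiv.refl _)]
  congr 1
  exact Subgroup.map_id K

theorem inducedFunctor_char {W : ∀ (Q : Type u) [Group Q], Subgroup Q} (hW : IsCharPFunctor.{u} p W)
    (S : Sylow p G) (hne : (S : Subgroup G) ≠ ⊥) :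
    W ↥(S : Subgroup G) ≠ ⊥ ∧ (W ↥(S : Subgroup G)).Characteristic := by
  refine ⟨hW.1 _ S.isPGroup' ((Subgroup.nontrivial_iff_ne_bot _).2 hne), ?_⟩
  exact Subgroup.characteristic_iff_map_eq.2 fun φ => hW.2 _ _ S.isPGroup' φ

/-- The target in the statement is the one of the family of all functors. -/
theorem target_eq (S : Sylow p G) (hne : (S : Subgroup G) ≠ ⊥) :
    transferTarget (S : Subgroup G) (indFam G (allFun p)) =
      ⨆ K : {K : Subgroup ↥(S : Subgroup G) // K ≠ ⊥ ∧ K.Characteristic}, (S : Subgroup G) ⊓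
        ⁅normalizer ((((K : Subgroup ↥(S : Subgroup G))).map (S : Subgroup G).subtype : Subgroup G) :
          Set G),
          normalizer ((((K : Subgroup ↥(S : Subgroup G))).map (S : Subgroup G).subtype : Subgroup G) :
          Set G)⁆ := by
  refine le_antisymm ?_ ?_
  · rw [transferTarget, indFam, iSup_image]
    refine iSup₂_le fun W hW => ?_
    simp only [top_inf_eq]
    obtain ⟨h1, h2⟩ := inducedFunctor_char hW S hne
    exact le_iSup_of_le ⟨W ↥(S : Subgroup G), h1, h2⟩ le_rfl
  · refine iSup_le fun ⟨K, hK, hKc⟩ => ?_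
    haveI := hKc
    rw [transferTarget, indFam, iSup_image]
    refine le_iSup₂_of_le (fun Q [Group Q] => imgFun K Q) (imgFun_isCharP hK) ?_
    simp only [top_inf_eq, inducedFunctor_imgFun]
    exact le_rfl

/-- A minimal failure of the transfer theorem, as it is used later. -/
structure Fail (S : Sylow p G) (M Y : Subgroup G) : Prop where
  cons : centralizer ((pCore p G : Subgroup G) : Set G) ≤ pCore p G
  ne : M ≠ ⊤
  uniq : ∀ H : Subgroup G, (S : Subgroup G) ≤ H → H ≠ ⊤ → H ≤ M
  norm : M = normalizer (Y : Set G)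
  comm : ⁅pCore p G, M⁆ ≤ Y
  yle : Y ≤ pCore p G
  cz : centralizer ((CfsgLib.LocalEven.CD.zOf (S : Subgroup G) : Subgroup G) : Set G) ≤ M
  nW : normalizer (wImg p (S : Subgroup G) : Set G) ≤ M

/-- A family with the centre and the second functor controls transfer, if there is no minimal
failure. -/
theorem controls {𝓦 : Set (∀ (Q : Type u) [Group Q], Subgroup Q)}
    (h𝓦 : ∀ W ∈ 𝓦, IsCharPFunctor.{u} p W) (hc : (fun Q [Group Q] => centerFun Q) ∈ 𝓦)
    (hw : (fun Q [Group Q] => wSub p Q) ∈ 𝓦)
    (h : ∀ (X : Type u) [Group X] [Finite X] (S : Sylow p X) (M Y : Subgroup X), ¬ Fail S M Y) :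
    ∀ (G : Type u) [Group G] [Finite G], FamilyControlsTransferIn p (indFam G 𝓦) ⊤ := by
  intro G
  induction hn : Nat.card G using Nat.strong_induction_on generalizing G with
  | _ n ih =>
    intro _ _
    by_contra hG
    have hK : ∀ K : Subgroup G, K ≠ ⊤ → FamilyControlsTransferIn p (indFam G 𝓦) K :=
      fun K hK => familyTransfer_subgroup h𝓦 (ih _ (hn ▸ card_subgroup_lt K hK) K rfl)
    have hQ : ∀ (N : Subgroup G) [N.Normal], N ≠ ⊥ →
        FamilyControlsTransferIn p (indFam (G ⧸ N) 𝓦) ⊤ := fun N _ hN =>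
      ih _ (hn ▸ card_quotient_lt N hN) (G ⧸ N) rfl
    let S : Sylow p G := default
    obtain ⟨h1, ⟨h2, h3⟩, h4, -⟩ := minimal_failure h𝓦 ⟨_, hc⟩ hK hQ hG (sylIn_top S)
    obtain ⟨h4a, h4b⟩ := h4 _ rfl
    have hno : ∀ W ∈ 𝓦, normalizer ((inducedFunctor (G := G) W (S : Subgroup G)) : Set G) ≠ ⊤ := by
      intro W hW htop
      refine hG ⟨(S : Subgroup G), le_top, S.isPGroup', (sylIn_top S).not_dvd,
        le_antisymm ?_ (transferTarget_le _ _)⟩
      rw [indFam, iSup_image]
      refine le_iSup₂_of_le W hW ?_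
      rw [htop]
      simp only [le_refl, inf_of_le_left]
    refine h G S _ _ ⟨h1, h2, h3, rfl, ?_, inf_le_right, h3 _ ?_ fun htop => hno _ hc ?_,
      h3 _ ?_ ?_⟩
    · refine le_inf (h4a.trans (h4b.trans inf_le_right)) (h4a.trans inf_le_left)
    · exact le_centralizer_iff.1 inf_le_right
    · rw [inducedFunctor_center, eq_top_iff, ← htop]
      exact centralizer_le_normalizer _
    · exact le_normalizer.trans (normalizer_le_wImg _)
    · have := hno _ hw
      rwa [inducedFunctor_wSub] at this

/-- The family of all functors controls transfer. -/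
theorem controls_all
    (h : ∀ (X : Type u) [Group X] [Finite X] (S : Sylow p X) (M Y : Subgroup X), ¬ Fail S M Y) :
    ∀ (G : Type u) [Group G] [Finite G], FamilyControlsTransferIn p (indFam G (allFun p)) ⊤ :=
  controls allFun_spec centerFun_isCharP wSub_isCharP h

/-- The statement, given the exclusion of a minimal failure. -/
theorem transfer_eq (h : ∀ (X : Type u) [Group X] [Finite X] (S : Sylow p X) (M Y : Subgroup X),
      ¬ Fail S M Y) (S : Sylow p G) (hne : (S : Subgroup G) ≠ ⊥) :
    (S : Subgroup G) ⊓ commutator G =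
      ⨆ K : {K : Subgroup ↥(S : Subgroup G) // K ≠ ⊥ ∧ K.Characteristic}, (S : Subgroup G) ⊓
        ⁅normalizer ((((K : Subgroup ↥(S : Subgroup G))).map (S : Subgroup G).subtype : Subgroup G) :
          Set G),
          normalizer ((((K : Subgroup ↥(S : Subgroup G))).map (S : Subgroup G).subtype : Subgroup G) :
          Set G)⁆ := by
  have hF := isConjugacyFunctor_indFam (G := G) (allFun_spec (p := p))
  have := familyTransferAt_of_controls hF (sylIn_top S) (controls_all h G)
  rw [← target_eq S hne, transferTarget]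
  exact this

end CfsgLib.CharTransfer
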