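import Mathlib
import Cfsg.Agent.Lib.Base.Cores
import Cfsg.Prelude.Def_LocalEven

/-!
A subgroup with natural chief factors whose central involution is absorbed normalises the target.
-/

set_option autoImplicit false
set_option linter.unusedSectionVars false
set_option linter.style.haveILetI false

namespace CfsgLib.CharTransfer

open Cfsg Subgroup
open scoped commutatorElement MatrixGroups

variable {G : Type*} [Group G] [Finite G] {p : ℕ} [Fact p.Prime]

theorem conj_pow_mem_one {H : Type*} [Group H] {g x y : H} {n : ℕ}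
    (hgx : g * x * g⁻¹ = y * x) (hgy : g * y * g⁻¹ = y) (hn : g ^ n = 1) : y ^ n = 1 := by
  have key : ∀ k : ℕ, g ^ k * x * (g ^ k)⁻¹ = y ^ k * x := by
    intro k
    induction k with
    | zero => simp
    | succ k ih =>
      calc g ^ (k + 1) * x * (g ^ (k + 1))⁻¹ = g * (g ^ k * x * (g ^ k)⁻¹) * g⁻¹ := by
            rw [pow_succ']; group
        _ = (g * y ^ k * g⁻¹) * (g * x * g⁻¹) := by rw [ih]; group
        _ = y ^ (k + 1) * x := by rw [← conj_pow, hgy, hgx, pow_succ, mul_assoc]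
  have := key n
  rw [hn, one_mul, inv_one, mul_one] at this
  exact right_eq_mul.1 this

/-- The trick behind coprime action on a series. -/
theorem mem_of_coprime_step {D : Subgroup G} {g x y : G} (hg : g ∈ normalizer (D : Set G))
    (hx : x ∈ normalizer (D : Set G)) (hy : y ∈ normalizer (D : Set G))
    (hgx : g * x * g⁻¹ = y * x) (hgy : g * y * g⁻¹ * y⁻¹ ∈ D) {n : ℕ} (hgn : g ^ n = 1)
    (hyp : ∃ k : ℕ, y ^ p ^ k = 1) (hn : n.Coprime p) : y ∈ D := by
  obtain ⟨k, hk⟩ := hyp
  set N := normalizer (D : Set G)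
  haveI : (D.subgroupOf N).Normal := Subgroup.normal_in_normalizer
  let π := QuotientGroup.mk' (D.subgroupOf N)
  have h1 : π ⟨g, hg⟩ * π ⟨y, hy⟩ * (π ⟨g, hg⟩)⁻¹ = π ⟨y, hy⟩ := by
    refine mul_inv_eq_one.1 ?_
    rw [← map_inv, ← map_inv, ← map_mul, ← map_mul, ← map_mul]
    exact (QuotientGroup.eq_one_iff _).2 hgy
  have h2 : π ⟨g, hg⟩ * π ⟨x, hx⟩ * (π ⟨g, hg⟩)⁻¹ = π ⟨y, hy⟩ * π ⟨x, hx⟩ := by
    rw [← map_inv, ← map_mul, ← map_mul, ← map_mul]
    exact congrArg π (Subtype.ext hgx)
  have h3 := conj_pow_mem_one h2 h1 (n := n)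
    (by rw [← map_pow, show (⟨g, hg⟩ : N) ^ n = 1 from Subtype.ext hgn, map_one])
  have h4 : π ⟨y, hy⟩ ^ p ^ k = 1 := by
    rw [← map_pow, show (⟨y, hy⟩ : N) ^ p ^ k = 1 from Subtype.ext hk, map_one]
  have h5 : π ⟨y, hy⟩ = 1 := orderOf_eq_one_iff.1 (Nat.eq_one_of_dvd_coprimes
    (Nat.Coprime.pow_right k hn) (orderOf_dvd_of_pow_eq_one h3) (orderOf_dvd_of_pow_eq_one h4))
  exact mem_subgroupOf.1 ((QuotientGroup.eq_one_iff _).1 h5)

/-- A group with Sylow subgroup `B` is generated by `B` and the elements of order prime to `p`. -/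
theorem closure_coprime_sylow {L : Type*} [Group L] [Finite L] (B : Sylow p L) :
    closure ({g : L | (orderOf g).Coprime p} ∪ (B : Subgroup L)) = ⊤ := by
  set N := closure ({g : L | (orderOf g).Coprime p} ∪ ((B : Subgroup L) : Set L))
  by_contra hne
  have hidx : N.index ≠ 1 := fun h => hne (index_eq_one.1 h)
  obtain ⟨q, hq, hqd⟩ := Nat.exists_prime_and_dvd hidx
  haveI : Fact q.Prime := ⟨hq⟩
  let Q : Sylow q L := default
  have hQN : (Q : Subgroup L) ≤ N := by
    by_cases hqp : q = p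
    · subst hqp
      have : (B : Subgroup L) ≤ N := fun b hb => subset_closure (Or.inr hb)
      obtain ⟨g, hg⟩ := MulAction.exists_smul_eq L B Q
      have hconj : ∀ x ∈ N, g * x * g⁻¹ ∈ N → g * x * g⁻¹ ∈ N := fun _ _ h => h
      exact absurd hqd fun hd => B.not_dvd_index (hd.trans (index_dvd_of_le this))
    · intro x hx
      refine subset_closure (Or.inl ?_)
      obtain ⟨k, hk⟩ := IsPGroup.iff_orderOf.1 Q.isPGroup' ⟨x, hx⟩
      show (orderOf x).Coprime p
      rw [← Subgroup.orderOf_mk x hx] at *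
      rw [hk]
      exact ((Nat.coprime_primes hq Fact.out).2 hqp).pow_left k
  exact Q.not_dvd_index (hqd.trans (index_dvd_of_le hQN))

/-- The main lemma: `L` normalises `Y`. -/
theorem le_normalizer_of_natural (hp2 : p ≠ 2) {P Y M L : Subgroup G} [P.Normal]
    (hP : IsPGroup p P) (hPN : P ≤ normalizer (L : Set G)) (hM : M ≤ normalizer (Y : Set G)) (hcomm : ⁅P, M⁆ ≤ Y) (hYP : Y ≤ P)
    (B : Sylow p L) (hBM : (B : Subgroup L).map L.subtype ≤ M)
    (hNB : L ⊓ normalizer (((B : Subgroup L).map L.subtype : Subgroup G) : Set G) ≤ M)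
    (F : Type) [Field F] [Fintype F] {n : ℕ} (hF : Fintype.card F = p ^ n)
    (e : L ⧸ pCore p L ≃* SL(2, F))
    (hfac : ∀ (U W : Subgroup L) [W.Normal], U ≤ pCore p L → IsChiefFactor U W →
      ¬ ⁅U, (⊤ : Subgroup L)⁆ ≤ W →
      IsNaturalSL2Module F (U.map (QuotientGroup.mk' W)) (⊤ : Subgroup (L ⧸ W))) :
    L ≤ normalizer (Y : Set G) := by
  classical
  have hRB : pCore p L ≤ (B : Subgroup L) :=
    (CfsgLib.Base.isPGroup_pCore p L).le_sylow_of_normal B
  haveI : CharP F p := charP_of_card_eq_prime_pow hF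
  have hneg : (-1 : SL(2, F)) ≠ 1 := by
    intro h
    have h1 := congrArg (fun m : SL(2, F) => (m : Matrix (Fin 2) (Fin 2) F) 0 0) h
    simp at h1
    have h2 : ((2 : ℕ) : F) = 0 := by
      push_cast
      linear_combination -h1
    exact hp2 ((Nat.prime_dvd_prime_iff_eq Fact.out Nat.prime_two).1
      ((CharP.cast_eq_zero_iff F p 2).1 h2))
  obtain ⟨z, hz⟩ : ∃ z : L, e (QuotientGroup.mk z) = -1 := by
    obtain ⟨z, hz⟩ := QuotientGroup.mk_surjective (e.symm (-1))
    exact ⟨z, by rw [hz, e.apply_symm_apply]⟩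
  have hzR : z ∉ pCore p L := fun h => hneg (by
    rw [← hz, (QuotientGroup.eq_one_iff z).2 h, map_one])
  have hzc : ∀ l : L, ∃ r ∈ pCore p L, l * z * l⁻¹ = z * r := by
    intro l
    refine ⟨z⁻¹ * (l * z * l⁻¹), (QuotientGroup.eq_one_iff _).1 (e.injective ?_), by group⟩
    rw [map_one, QuotientGroup.mk_mul, QuotientGroup.mk_inv, QuotientGroup.mk_mul, QuotientGroup.mk_mul,
      QuotientGroup.mk_inv, map_mul, map_mul, map_mul, map_inv, map_inv, hz]
    ext i j
    simp
  have hzM : (z : G) ∈ M := by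
    refine hNB ⟨z.2, mem_normalizer_iff.2 fun x => ?_⟩
    have key : ∀ (w : L), (∀ l : L, ∃ r ∈ pCore p L, l * w * l⁻¹ = w * r) →
        ∀ b ∈ (B : Subgroup L), w * b * w⁻¹ ∈ (B : Subgroup L) := by
      intro w hw b hb
      obtain ⟨r, hr, hr'⟩ := hw b⁻¹
      rw [inv_inv] at hr'
      have : w * b * w⁻¹ = b * (w * r * w⁻¹) := by rw [← hr']; group
      rw [this]
      exact mul_mem hb (hRB ((inferInstance : (pCore p L).Normal).conj_mem r hr w))
    have hzc' : ∀ l : L, ∃ r ∈ pCore p L, l * z⁻¹ * l⁻¹ = z⁻¹ * r := by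
      intro l
      obtain ⟨r, hr, hr'⟩ := hzc l
      refine ⟨z * r⁻¹ * z⁻¹, (inferInstance : (pCore p L).Normal).conj_mem _ (inv_mem hr) z, ?_⟩
      rw [show l * z⁻¹ * l⁻¹ = (l * z * l⁻¹)⁻¹ by group, hr']
      group
    constructor
    · rintro ⟨b, hb, rfl⟩
      exact ⟨_, key z hzc b hb, rfl⟩
    · rintro ⟨b, hb, he⟩
      refine ⟨z⁻¹ * b * z⁻¹⁻¹, key _ hzc' b hb, ?_⟩
      simp only [Subgroup.coe_subtype, coe_mul, coe_inv] at he ⊢
      rw [he]
      group
  -- the normal closure of `[P, z]`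
  set D := closure {w : G | ∃ x ∈ P, ∃ l : L, w = ⁅x, ((l * z * l⁻¹ : L) : G)⁆}
  have hDY : D ≤ Y := by
    rw [closure_le]
    rintro w ⟨x, hx, l, rfl⟩
    obtain ⟨r, hr, hr'⟩ := hzc l
    rw [hr', coe_mul, show ⁅x, (z : G) * (r : G)⁆ = ⁅x, (z : G)⁆ * ((z : G) * ⁅x, (r : G)⁆ * (z : G)⁻¹) by
      simp only [commutatorElement_def]; group]
    refine mul_mem (hcomm (commutator_mem_commutator hx hzM)) ?_
    exact (mem_normalizer_iff.1 (hM hzM) _).1
      (hcomm (commutator_mem_commutator hx (hBM ⟨r, hRB hr, rfl⟩)))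
  have hgen : ∀ x ∈ P, ∀ l : L, ⁅x, ((l * z * l⁻¹ : L) : G)⁆ ∈ D :=
    fun x hx l => subset_closure ⟨x, hx, l, rfl⟩
  have hDP : D ≤ P := hDY.trans hYP
  have hPD : P ≤ normalizer (D : Set G) := by
    refine le_normalizer_iff.2 fun y hy d hd => ?_
    induction hd using closure_induction with
    | mem w hw =>
      obtain ⟨x, hx, l, rfl⟩ := hw
      rw [show y * ⁅x, ((l * z * l⁻¹ : L) : G)⁆ * y⁻¹ =
        ⁅y * x, ((l * z * l⁻¹ : L) : G)⁆ * ⁅y, ((l * z * l⁻¹ : L) : G)⁆⁻¹ by
          simp only [commutatorElement_def]; group]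
      exact mul_mem (hgen _ (mul_mem hy hx) l) (inv_mem (hgen y hy l))
    | one => simp
    | mul a b _ _ ha hb =>
      rw [show y * (a * b) * y⁻¹ = (y * a * y⁻¹) * (y * b * y⁻¹) by group]; exact mul_mem ha hb
    | inv a _ ha => rw [show y * a⁻¹ * y⁻¹ = (y * a * y⁻¹)⁻¹ by group]; exact inv_mem ha
  have hLD : L ≤ normalizer (D : Set G) := by
    refine le_normalizer_iff.2 fun y hy d hd => ?_
    induction hd using closure_induction with
    | mem w hw =>
      obtain ⟨x, hx, l, rfl⟩ := hw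
      rw [show y * ⁅x, ((l * z * l⁻¹ : L) : G)⁆ * y⁻¹ =
        ⁅y * x * y⁻¹, (((⟨y, hy⟩ * l) * z * (⟨y, hy⟩ * l)⁻¹ : L) : G)⁆ by
          simp only [commutatorElement_def, coe_mul, coe_inv]; group]
      exact hgen _ ((inferInstance : P.Normal).conj_mem x hx y) _
    | one => simp
    | mul a b _ _ ha hb =>
      rw [show y * (a * b) * y⁻¹ = (y * a * y⁻¹) * (y * b * y⁻¹) by group]; exact mul_mem ha hb
    | inv a _ ha => rw [show y * a⁻¹ * y⁻¹ = (y * a * y⁻¹)⁻¹ by group]; exact inv_mem ha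
  haveI hDn : (D.subgroupOf L).Normal := normal_subgroupOf_of_le_normalizer hLD
  haveI hPn : (P.subgroupOf L).Normal := (inferInstance : P.Normal).subgroupOf L
  have hzD : ∀ u : L, (u : G) ∈ P → ⁅u, z⁆ ∈ D.subgroupOf L := by
    intro u hu
    have := hgen _ hu 1
    simpa [mem_subgroupOf, commutatorElement_def] using this
  have hPL : P.subgroupOf L ≤ pCore p L := CfsgLib.Base.le_pCore hP.comap_subtype
  have hypow : ∀ y ∈ P, ∃ k : ℕ, y ^ p ^ k = 1 := fun y hy => by
    obtain ⟨k, hk⟩ := hP ⟨y, hy⟩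
    exact ⟨k, congrArg Subtype.val hk⟩
  -- on `P ∩ L`
  have hinner : ∀ U : Subgroup L, U.Normal → U ≤ P.subgroupOf L →
      ∀ g : L, (orderOf g).Coprime p → ∀ x ∈ U, ⁅(g : G), (x : G)⁆ ∈ D := by
    intro U
    induction hc : Nat.card U using Nat.strong_induction_on generalizing U with
    | _ c ih =>
      intro hUn hUP g hg x hx
      rcases eq_or_ne U ⊥ with rfl | hU0
      · rw [mem_bot.1 hx, OneMemClass.coe_one, commutatorElement_one_right]
        exact one_mem _
      haveI := hUn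
      obtain ⟨W, ⟨⟨hWn, hWU⟩, hmax⟩⟩ := Set.Finite.exists_maximal
        (s := {W : Subgroup L | W.Normal ∧ W < U}) (Set.toFinite _)
        ⟨⊥, inferInstance, bot_lt_iff_ne_bot.2 hU0⟩
      haveI := hWn
      have hch : IsChiefFactor U W := ⟨hWU, hUn, hWn, fun N hN hWN hNU => by
        rcases eq_or_lt_of_le hNU with h | h
        · exact Or.inr h
        · exact Or.inl (le_antisymm (hmax ⟨hN, h⟩ hWN) hWN)⟩
      have ihW : ∀ w ∈ W, ⁅(g : G), (w : G)⁆ ∈ D := fun w hw =>
        ih (Nat.card W) (hc ▸ lt_of_le_of_ne (card_le_of_le hWU.le)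
          fun he => hWU.ne (eq_of_le_of_card_ge hWU.le he.ge)) W rfl hWn
          (hWU.le.trans hUP) g hg w hw
      by_cases htriv : ⁅U, (⊤ : Subgroup L)⁆ ≤ W
      · have hy : ⁅g, x⁆ ∈ W := by
          rw [← commutatorElement_inv]
          exact inv_mem (htriv (commutator_mem_commutator hx (mem_top g)))
        have hyP : ((⁅g, x⁆ : L) : G) ∈ P := hUP (hWU.le hy)
        have h1 := ihW _ hy
        refine (show ((⁅g, x⁆ : L) : G) = ⁅(g : G), (x : G)⁆ by
          simp [commutatorElement_def]) ▸ mem_of_coprime_step (p := p) (hLD g.2) (hLD x.2)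
            (hPD hyP) (by simp [commutatorElement_def]) ?_
            (n := orderOf g) (by rw [← SubgroupClass.coe_pow, pow_orderOf_eq_one, coe_one])
            (hypow _ hyP) hg
        simpa [commutatorElement_def] using h1
      · by_cases hDU : U ⊓ D.subgroupOf L ≤ W
        · exfalso
          obtain ⟨-, ρ, ψ, hρ, hker, -⟩ := hfac U W (hUP.trans hPL) hch htriv
          let π : L →* (⊤ : Subgroup (L ⧸ W)) :=
            (QuotientGroup.mk' W).codRestrict ⊤ fun _ => mem_top _
          have hπ : Function.Surjective π := fun y => by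
            obtain ⟨l, hl⟩ := QuotientGroup.mk'_surjective W y
            exact ⟨l, Subtype.ext hl⟩
          set K := (ρ.comp π).ker
          have hzK : z ∈ K := by
            show π z ∈ ρ.ker
            rw [hker, mem_subgroupOf, mem_centralizer_iff]
            rintro _ ⟨u, hu, rfl⟩
            show (QuotientGroup.mk' W) u * (QuotientGroup.mk' W) z =
              (QuotientGroup.mk' W) z * (QuotientGroup.mk' W) u
            rw [← commutatorElement_eq_one_iff_mul_comm, ← map_commutatorElement]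
            refine (QuotientGroup.eq_one_iff _).2 (hDU ⟨?_, hzD u (hUP hu)⟩)
            have := hUn.conj_mem _ (inv_mem hu) z
            simpa [commutatorElement_def, mul_assoc] using mul_mem hu this
          have hcard : Nat.card K = Nat.card (pCore p L) := by
            have h1 := Subgroup.card_eq_card_quotient_mul_card_subgroup K
            have h2 := Subgroup.card_eq_card_quotient_mul_card_subgroup (pCore p L)
            rw [Nat.card_congr (QuotientGroup.quotientKerEquivOfSurjective (ρ.comp π)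
              (hρ.comp hπ)).toEquiv] at h1
            rw [Nat.card_congr e.toEquiv] at h2
            exact Nat.eq_of_mul_eq_mul_left Nat.card_pos (h1.symm.trans h2)
          obtain ⟨k, hk⟩ := IsPGroup.iff_card.1 (CfsgLib.Base.isPGroup_pCore p L)
          exact hzR (CfsgLib.Base.le_pCore (IsPGroup.of_card (n := k) (hcard.trans hk)) hzK)
        · have hN : W ⊔ (U ⊓ D.subgroupOf L) = U := by
            refine (hch.2.2.2 _ inferInstance le_sup_left (sup_le hWU.le inf_le_left)).resolve_left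
              fun h => hDU ?_
            rw [← h]; exact le_sup_right
          rw [← hN, ← SetLike.mem_coe, Subgroup.mul_normal] at hx
          obtain ⟨w, hw, d, hd, rfl⟩ := hx
          have hdD : (d : G) ∈ D := hd.2
          rw [coe_mul, show ⁅(g : G), (w : G) * (d : G)⁆ =
            ⁅(g : G), (w : G)⁆ * ((w : G) * ⁅(g : G), (d : G)⁆ * (w : G)⁻¹) by
              simp only [commutatorElement_def]; group]
          refine mul_mem (ihW w hw) ((mem_normalizer_iff.1 (hLD w.2) _).1 ?_)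
          exact mul_mem ((mem_normalizer_iff.1 (hLD g.2) _).1 hdD) (inv_mem hdD)
  have hall : ∀ g : L, (orderOf g).Coprime p → ∀ x ∈ P, ⁅(g : G), x⁆ ∈ D := by
    intro g hg x hx
    have hyL : ⁅(g : G), x⁆ ∈ L := by
      rw [show ⁅(g : G), x⁆ = (g : G) * (x * (g : G)⁻¹ * x⁻¹) by
        simp only [commutatorElement_def]; group]
      exact mul_mem g.2 ((mem_normalizer_iff.1 (hPN hx) _).1 (inv_mem g.2))
    · have hyP : ⁅(g : G), x⁆ ∈ P := by
        rw [show ⁅(g : G), x⁆ = ((g : G) * x * (g : G)⁻¹) * x⁻¹ by rw [commutatorElement_def]]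
        exact mul_mem ((inferInstance : P.Normal).conj_mem x hx g) (inv_mem hx)
      have h1 := hinner (P.subgroupOf L) hPn le_rfl g hg ⟨_, hyL⟩ hyP
      refine mem_of_coprime_step (p := p) (hLD g.2) (hPD hx) (hPD hyP)
        (by simp [commutatorElement_def]) ?_ (n := orderOf g)
        (by rw [← SubgroupClass.coe_pow, pow_orderOf_eq_one, coe_one]) (hypow _ hyP) hg
      simpa [commutatorElement_def] using h1
  -- conclusion
  intro l hl
  have hle : (⊤ : Subgroup L) ≤ (normalizer (Y : Set G)).comap L.subtype := by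
    rw [← closure_coprime_sylow B, closure_le]
    rintro g (hg | hg)
    · refine mem_normalizer_iff_map_conj_eq.2 (eq_of_le_of_card_ge ?_
        (card_map_of_injective (MulAut.conj (g : G)).injective).ge)
      rintro _ ⟨y, hy, rfl⟩
      have := mul_mem (hDY (hall g hg y (hYP hy))) hy
      simpa [commutatorElement_def] using this
    · exact hM (hBM ⟨g, hg, rfl⟩)
  exact hle (mem_top (⟨l, hl⟩ : L))

end CfsgLib.CharTransfer
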