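import Mathlib
import Cfsg.Agent.Lib.Classical.GL2

/-!
A normal `SL₂(F)` on its natural module, supplemented by a `p`-group that centralises the fixed
points of the best offenders: the group maps onto `PSL₂(F)`.
-/

set_option autoImplicit false
set_option linter.unusedSectionVars false
set_option linter.style.haveILetI false

namespace CfsgLib.CharTransfer

open Subgroup Matrix CfsgLib.Classical
open scoped MatrixGroups

section Fixed

variable {Γ N : Type*} [Group Γ] [AddCommGroup N] [DistribMulAction Γ N]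

variable (N) in
/-- The vectors fixed by `X`. -/
def fixV (X : Subgroup Γ) : AddSubgroup N where
  carrier := {v | ∀ x ∈ X, x • v = v}
  zero_mem' x _ := smul_zero x
  add_mem' ha hb x hx := by rw [smul_add, ha x hx, hb x hx]
  neg_mem' ha x hx := by rw [smul_neg, ha x hx]

theorem mem_fixV {X : Subgroup Γ} {v : N} : v ∈ fixV N X ↔ ∀ x ∈ X, x • v = v := Iff.rfl

theorem fixV_anti {X Y : Subgroup Γ} (h : X ≤ Y) : fixV N Y ≤ fixV N X :=
  fun _ hv x hx => hv x (h hx)

variable (N) in
/-- A best offender, in the weak sense that is needed here. -/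
def IsBest (X : Subgroup Γ) : Prop :=
  ∀ X' : Subgroup Γ, X' ≤ X →
    Nat.card X' * Nat.card (fixV N X') ≤ Nat.card X * Nat.card (fixV N X)

/-- The index of the fixed points of a subgroup of a best offender is at most its index. -/
theorem IsBest.relIndex_le [Finite Γ] [Finite N] {X X' : Subgroup Γ} (h : IsBest N X) (hle : X' ≤ X) :
    (fixV N X).relIndex (fixV N X') ≤ X'.relIndex X := by
  have h1 := h X' hle
  have h2 : (fixV N X).relIndex (fixV N X') * Nat.card (fixV N X) = Nat.card (fixV N X') := by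
    have e := AddSubgroup.card_mul_index ((fixV N X).addSubgroupOf (fixV N X'))
    rw [Nat.card_congr (AddSubgroup.addSubgroupOfEquivOfLe (fixV_anti hle)).toEquiv, mul_comm] at e
    exact e
  have h3 : X'.relIndex X * Nat.card X' = Nat.card X := by
    have e := Subgroup.card_mul_index (X'.subgroupOf X)
    rw [Nat.card_congr (Subgroup.subgroupOfEquivOfLe hle).toEquiv, mul_comm] at e
    exact e
  rw [← h2, ← h3] at h1
  refine Nat.le_of_mul_le_mul_left ?_
    (Nat.mul_pos (Nat.card_pos (α := ↥X')) (Nat.card_pos (α := ↥(fixV N X))))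
  calc Nat.card X' * Nat.card (fixV N X) * (fixV N X).relIndex (fixV N X')
      = Nat.card X' * ((fixV N X).relIndex (fixV N X') * Nat.card (fixV N X)) := by ring
    _ ≤ X'.relIndex X * Nat.card X' * Nat.card (fixV N X) := h1
    _ = Nat.card X' * Nat.card (fixV N X) * X'.relIndex X := by ring

end Fixed

section Auto

variable {p : ℕ} [Fact p.Prime] {F : Type*} [Field F] [Finite F]

/-- A group of field automorphisms whose order bounds the index of its fixed field is trivial. -/
theorem fixed_eq_top (hp2 : p ≠ 2) [CharP F p] (K : Subfield F) (A : Type*) [Group A] [Finite A]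
    (f : A →* (F ≃ₐ[K] F)) (hf : Function.Injective f)
    (h : Nat.card F ≤ Nat.card A * Nat.card K) : K = ⊤ := by
  classical
  haveI := Fintype.ofFinite F
  haveI : FiniteDimensional K F := Module.Finite.of_finite
  set d := Module.finrank K F with hd
  have hA : Nat.card A ≤ d := by
    refine (Nat.card_le_card_of_injective f hf).trans ?_
    rw [Nat.card_eq_fintype_card]
    exact AlgEquiv.card_le
  have hcard : Nat.card F = Nat.card K ^ d := Module.natCard_eq_pow_finrank
  have hd1 : 1 ≤ d := Module.finrank_pos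
  have hK : 3 ≤ Nat.card K := by
    haveI : CharP K p := (RingHom.charP_iff K.subtype K.subtype.injective p).2 inferInstance
    have h3 : 3 ≤ p := by
      have := (Fact.out : p.Prime).two_le
      omega
    refine h3.trans ?_
    haveI := Fintype.ofFinite K
    obtain ⟨n, -, hn⟩ := FiniteField.card K p
    rw [Nat.card_eq_fintype_card, hn]
    exact Nat.le_self_pow n.ne_zero p
  have hd2 : d = 1 := by
    by_contra hne
    obtain ⟨e, he⟩ : ∃ e, d = e + 2 := ⟨d - 2, by omega⟩
    have h1 : Nat.card K ^ (e + 1) * Nat.card K ≤ (e + 2) * Nat.card K := by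
      rw [← pow_succ, ← he] at *
      exact hcard ▸ h.trans (Nat.mul_le_mul_right _ hA)
    have h2 := Nat.le_of_mul_le_mul_right h1 (by omega)
    have h4 : ∀ k : ℕ, k + 2 < 3 ^ (k + 1) := by
      intro k
      induction k with
      | zero => norm_num
      | succ k ih => rw [pow_succ]; omega
    exact absurd h2 (not_le.2 ((h4 e).trans_le (Nat.pow_le_pow_left hK _)))
  refine top_le_iff.1 fun x _ => ?_
  obtain ⟨c, hc⟩ := exists_smul_eq_of_finrank_eq_one hd2 (one_ne_zero : (1 : F) ≠ 0) x
  rw [← hc, Subfield.smul_def, smul_eq_mul, mul_one]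
  exact c.2

end Auto

variable {p : ℕ} [Fact p.Prime] {Γ N : Type*} [Group Γ] [Finite Γ] [AddCommGroup N] [Finite N]
  [DistribMulAction Γ N] {F : Type} [Field F] [Fintype F]

theorem exists_sl_first_col {v : Fin 2 → F} (hv : v ≠ 0) :
    ∃ P : SL(2, F), P.1.mulVec ![1, 0] = v := by
  by_cases h0 : v 0 = 0
  · have h1 : v 1 ≠ 0 := fun h1 => hv (by funext i; fin_cases i <;> simp [h0, h1])
    refine ⟨⟨!![0, -(v 1)⁻¹; v 1, 0], by simp [det_fin_two, h1]⟩, ?_⟩
    funext i; fin_cases i <;> simp [h0]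
  · refine ⟨⟨!![v 0, 0; v 1, (v 0)⁻¹], by simp [det_fin_two, h0]⟩, ?_⟩
    funext i; fin_cases i <;> simp

theorem sl_fix_e1 {g : SL(2, F)} (h : g.1.mulVec ![1, 0] = ![1, 0]) : g = uSL (g.1 0 1) := by
  have h0 := congrFun h 0
  have h1 := congrFun h 1
  simp [mulVec, dotProduct, Fin.sum_univ_two] at h0 h1
  have hd := g.2
  rw [det_fin_two, h0, h1] at hd
  simp at hd
  ext i j
  rw [uSL_coe]
  fin_cases i <;> fin_cases j <;> simp [h0, h1, hd]

theorem sl_fix_e2 {g : SL(2, F)} (h : g.1.mulVec ![0, 1] = ![0, 1]) : g = lSL (g.1 1 0) := by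
  have h0 := congrFun h 0
  have h1 := congrFun h 1
  simp [mulVec, dotProduct, Fin.sum_univ_two] at h0 h1
  have hd := g.2
  rw [det_fin_two, h0, h1] at hd
  simp at hd
  ext i j
  rw [lSL_coe]
  fin_cases i <;> fin_cases j <;> simp [h0, h1, hd]

theorem uSL_mulVec (a x y : F) :
    (uSL a : SL(2, F)).1.mulVec ![x, y] = ![x + a * y, y] := by
  rw [uSL_coe]; funext i; fin_cases i <;> simp [mulVec, dotProduct, Fin.sum_univ_two]

theorem lSL_mulVec (a x y : F) :
    (lSL a : SL(2, F)).1.mulVec ![x, y] = ![x, a * x + y] := by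
  rw [lSL_coe]; funext i; fin_cases i <;> simp [mulVec, dotProduct, Fin.sum_univ_two]

theorem vec_eta (v : Fin 2 → F) : v = ![v 0, v 1] := by funext i; fin_cases i <;> rfl

theorem one_block_aux (hp2 : p ≠ 2) [CharP F p] {T B : Subgroup Γ} (hT : IsPGroup p T) (hBT : B ≤ T)
    (𝒳 : Set (Subgroup Γ)) (hX : ∀ X ∈ 𝒳, X ≤ T ∧ IsBest N X)
    (hBfix : ∀ v : N, (∀ X ∈ 𝒳, v ∈ fixV N X) → v ∈ fixV N B)
    (E : Subgroup Γ) [E.Normal] (hgen : E ⊔ B = ⊤)
    (W : AddSubgroup N) (hW : ∀ g : Γ, ∀ w ∈ W, g • w ∈ W)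
    (ρ : ↥E ≃* SL(2, F)) (ψ : ↥W ≃+ (Fin 2 → F))
    (hψ : ∀ (e : ↥E) (w : ↥W), ψ ⟨(e : Γ) • (w : N), hW _ _ w.2⟩ = (ρ e).1.mulVec (ψ w))
    (hv0 : ∀ t ∈ T, t • ((ψ.symm ![1, 0] : ↥W) : N) = (ψ.symm ![1, 0] : ↥W)) :
    ∃ (K : Subgroup Γ) (_ : K.Normal), Nonempty (Γ ⧸ K ≃* SL(2, F)) := by
  classical
  let act : Γ → (Fin 2 → F) → (Fin 2 → F) := fun g v => ψ ⟨g • (ψ.symm v : N), hW _ _ (ψ.symm v).2⟩
  have act_mul : ∀ g h v, act (g * h) v = act g (act h v) := fun g h v => by
    simp only [act, AddEquiv.symm_apply_apply, mul_smul]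
  have act_add : ∀ g v w, act g (v + w) = act g v + act g w := fun g v w => by
    simp only [act, ← map_add]
    congr 1
    exact Subtype.ext (by simp [smul_add])
  have act_one : ∀ v, act 1 v = v := fun v => by simp only [act, one_smul, Subtype.coe_eta, AddEquiv.apply_symm_apply]
  have act_E : ∀ (e : ↥E) v, act (e : Γ) v = (ρ e).1.mulVec v := fun e v => by
    simp only [act, hψ, AddEquiv.apply_symm_apply]
  have act_inj : ∀ g v w, act g v = act g w → v = w := fun g v w h => by
    have := congrArg (act g⁻¹) h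
    rwa [← act_mul, ← act_mul, inv_mul_cancel, act_one, act_one] at this
  have act_zero : ∀ g, act g 0 = 0 := fun g => by
    have := act_add g 0 0
    rw [add_zero, left_eq_add] at this
    exact this
  have act_sub : ∀ g v w, act g (v - w) = act g v - act g w := fun g v w => by
    rw [eq_sub_iff_add_eq, ← act_add, sub_add_cancel]
  have hTe1 : ∀ t ∈ T, act t ![1, 0] = ![1, 0] := fun t ht => by
    simp only [act, hv0 t ht, Subtype.coe_eta, AddEquiv.apply_symm_apply]
  let u : F → ↥E := fun a => ρ.symm (uSL a)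
  let l : F → ↥E := fun a => ρ.symm (lSL a)
  have act_u : ∀ a x y, act (u a : Γ) ![x, y] = ![x + a * y, y] := fun a x y => by
    rw [act_E, MulEquiv.apply_symm_apply, uSL_mulVec]
  have act_l : ∀ a x y, act (l a : Γ) ![x, y] = ![x, a * x + y] := fun a x y => by
    rw [act_E, MulEquiv.apply_symm_apply, lSL_mulVec]
  -- conjugates of transvections
  have hconjE : ∀ (t : Γ) (e : ↥E), t * (e : Γ) * t⁻¹ ∈ E := fun t e =>
    (inferInstance : E.Normal).conj_mem _ e.2 t
  have hu : ∀ t : Γ, act t ![1, 0] = ![1, 0] → ∀ a, ∃ a', ∀ v,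
      act t (act (u a : Γ) v) = act (u a' : Γ) (act t v) := by
    intro t ht a
    set e' : ↥E := ⟨t * (u a : Γ) * t⁻¹, hconjE t (u a)⟩ with he'
    have h1 : act (e' : Γ) ![1, 0] = ![1, 0] := by
      show act (t * (u a : Γ) * t⁻¹) ![1, 0] = _
      have ht' : act t⁻¹ ![1, 0] = ![1, 0] := act_inj t _ _ (by
        rw [← act_mul, mul_inv_cancel, act_one, ht])
      rw [act_mul, act_mul, ht', act_u, mul_zero, add_zero, ht]
    rw [act_E] at h1
    refine ⟨(ρ e').1 0 1, fun v => ?_⟩
    rw [act_E (u ((ρ e').1 0 1)), MulEquiv.apply_symm_apply, ← sl_fix_e1 h1, ← act_E, ← act_mul,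
      ← act_mul]
    show _ = act (t * (u a : Γ) * t⁻¹ * t) v
    rw [inv_mul_cancel_right]
  have hl : ∀ t : Γ, act t ![0, 1] = ![0, 1] → ∀ a, ∃ a', ∀ v,
      act t (act (l a : Γ) v) = act (l a' : Γ) (act t v) := by
    intro t ht a
    set e' : ↥E := ⟨t * (l a : Γ) * t⁻¹, hconjE t (l a)⟩ with he'
    have h1 : act (e' : Γ) ![0, 1] = ![0, 1] := by
      show act (t * (l a : Γ) * t⁻¹) ![0, 1] = _
      have ht' : act t⁻¹ ![0, 1] = ![0, 1] := act_inj t _ _ (by
        rw [← act_mul, mul_inv_cancel, act_one, ht])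
      rw [act_mul, act_mul, ht', act_l, mul_zero, zero_add, ht]
    rw [act_E] at h1
    refine ⟨(ρ e').1 1 0, fun v => ?_⟩
    rw [act_E (l ((ρ e').1 1 0)), MulEquiv.apply_symm_apply, ← sl_fix_e2 h1, ← act_E, ← act_mul,
      ← act_mul]
    show _ = act (t * (l a : Γ) * t⁻¹ * t) v
    rw [inv_mul_cancel_right]
  -- `T` is semilinear on the fixed line
  let al : Γ → F → F := fun t x => act t ![x, 0] 0
  have hline : ∀ t ∈ T, ∀ x, act t ![x, 0] = ![al t x, 0] := by
    intro t ht x
    obtain ⟨a, ha⟩ := hu t⁻¹ (act_inj t _ _ (by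
      rw [← act_mul, mul_inv_cancel, act_one, hTe1 t ht])) 1
    -- `u 1` fixes the image
    set v := act t ![x, 0] with hv
    have hv' : act (u 1 : Γ) v = v := by
      refine act_inj t⁻¹ _ _ ?_
      rw [ha, hv, ← act_mul t⁻¹ t, inv_mul_cancel, act_one, act_u, mul_zero, add_zero]
    rw [vec_eta v] at hv' ⊢
    rw [act_u, one_mul] at hv'
    have h1 : v 1 = 0 := by simpa using congrFun hv' 0
    rw [h1]
  have hal : ∀ t ∈ T, ∀ x y, al t (x * y) = al t x * al t y := by
    intro t ht
    let be : F → F := fun y => act t ![0, y] 1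
    have key : ∀ a, ∃ a', ∀ y, al t (a * y) = a' * be y := by
      intro a
      obtain ⟨a', ha'⟩ := hu t (hTe1 t ht) a
      refine ⟨a', fun y => ?_⟩
      have h1 := ha' ![0, y]
      rw [act_u, zero_add, show (![a * y, y] : Fin 2 → F) = ![a * y, 0] + ![0, y] by simp,
        act_add, hline t ht, vec_eta (act t ![0, y]), act_u] at h1
      have h2 := congrFun h1 0
      simp at h2
      linear_combination h2
    obtain ⟨π1, h1⟩ := key 1
    have hone : al t 1 = 1 := by
      show act t ![1, 0] 0 = 1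
      rw [hTe1 t ht]; rfl
    intro x y
    obtain ⟨π2, h2⟩ := key x
    have e1 := h1 1
    have e2 := h2 1
    have e3 := h1 y
    have e4 := h2 y
    rw [one_mul] at e1 e3
    rw [mul_one] at e2
    rw [hone] at e1
    rw [e4, e2, e3]
    linear_combination (π2 * be y) * e1
  have al_mul : ∀ s ∈ T, ∀ t ∈ T, ∀ x, al (s * t) x = al s (al t x) := fun s hs t ht x => by
    show act (s * t) ![x, 0] 0 = _
    rw [act_mul, hline t ht]
  have al_add : ∀ t x y, al t (x + y) = al t x + al t y := fun t x y => by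
    show act t ![x + y, 0] 0 = _
    rw [show (![x + y, 0] : Fin 2 → F) = ![x, 0] + ![y, 0] by simp, act_add]
    rfl
  have al_one : ∀ x, al 1 x = x := fun x => by
    show act 1 ![x, 0] 0 = x
    rw [act_one]; rfl
  have hone : ∀ t ∈ T, al t 1 = 1 := fun t ht => by
    show act t ![1, 0] 0 = 1
    rw [hTe1 t ht]; rfl
  -- the best offenders fix the line
  have hXline : ∀ X ∈ 𝒳, ∀ s ∈ X, ∀ x, al s x = x := by
    intro X hXm
    obtain ⟨hXT, hXb⟩ := hX X hXm
    let K : Subfield F :=
      { carrier := {x | ∀ s ∈ X, al s x = x}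
        one_mem' := fun s hs => hone s (hXT hs)
        mul_mem' := fun ha hb s hs => by rw [hal s (hXT hs), ha s hs, hb s hs]
        zero_mem' := fun s _ => add_eq_left.1 ((al_add s 0 0).symm.trans (by rw [add_zero]))
        add_mem' := fun ha hb s hs => by rw [al_add, ha s hs, hb s hs]
        neg_mem' := fun {a} ha s hs => by
          have h0 : al s 0 = 0 := add_eq_left.1 ((al_add s 0 0).symm.trans (by rw [add_zero]))
          rw [eq_neg_iff_add_eq_zero]
          conv_lhs => arg 2; rw [← ha s hs]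
          rw [← al_add, neg_add_cancel, h0]
        inv_mem' := fun a ha s hs => by
          by_cases h : a = 0
          · subst h
            rw [_root_.inv_zero]
            exact add_eq_left.1 ((al_add s 0 0).symm.trans (by rw [add_zero]))
          · refine eq_inv_of_mul_eq_one_left ?_
            conv_lhs => arg 2; rw [← ha s hs]
            rw [← hal s (hXT hs), inv_mul_cancel₀ h, hone s (hXT hs)] }
    have hmemK : ∀ x, x ∈ K ↔ ∀ s ∈ X, al s x = x := fun _ => Iff.rfl
    let f : ↥X →* (F ≃ₐ[K] F) :=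
      { toFun := fun s =>
          { toFun := al s
            invFun := al (s⁻¹ : ↥X)
            left_inv := fun x => by
              rw [← al_mul _ (hXT (s⁻¹ : ↥X).2) _ (hXT s.2), ← coe_mul, inv_mul_cancel, coe_one,
                al_one]
            right_inv := fun x => by
              rw [← al_mul _ (hXT s.2) _ (hXT (s⁻¹ : ↥X).2), ← coe_mul, mul_inv_cancel, coe_one,
                al_one]
            map_mul' := hal s (hXT s.2)
            map_add' := al_add s
            commutes' := fun c => c.2 s s.2 }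
        map_one' := AlgEquiv.ext fun x => al_one x
        map_mul' := fun s t => AlgEquiv.ext fun x => al_mul _ (hXT s.2) _ (hXT t.2) x }
    set X1 := f.ker.map X.subtype with hX1
    have hX1X : X1 ≤ X := map_subtype_le _
    have hidx : X1.relIndex X = Nat.card f.range := by
      rw [relIndex, subgroupOf, hX1, comap_map_eq_self_of_injective X.subtype_injective,
        index_ker]
    let j : F →+ N :=
      { toFun := fun x => (ψ.symm ![x, 0] : ↥W)
        map_zero' := by
          rw [show (![0, 0] : Fin 2 → F) = 0 by simp, map_zero, ZeroMemClass.coe_zero]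
        map_add' := fun x y => by
          rw [show (![x + y, 0] : Fin 2 → F) = ![x, 0] + ![y, 0] by simp, map_add,
            AddSubgroup.coe_add] }
    have hj : Function.Injective j := fun x y h => by
      simpa using congrFun (ψ.symm.injective (Subtype.ext h)) 0
    have hjs : ∀ s ∈ T, ∀ x, s • j x = j (al s x) := fun s hs x => by
      show s • ((ψ.symm ![x, 0] : ↥W) : N) = ((ψ.symm ![al s x, 0] : ↥W) : N)
      rw [← hline s hs x]
      simp only [act, AddEquiv.symm_apply_apply]
    have hL : j.range ≤ fixV N X1 := by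
      rintro _ ⟨x, rfl⟩ _ ⟨s, hs, rfl⟩
      show (s : Γ) • j x = j x
      rw [hjs _ (hXT s.2)]
      congr 1
      exact AlgEquiv.congr_fun hs x
    have hLK : (fixV N X).addSubgroupOf j.range ≃ K := by
      refine Equiv.ofBijective (fun v => ⟨(v.1.2 : (v.1 : N) ∈ j.range).choose, fun s hs => ?_⟩) ⟨?_, ?_⟩
      · refine hj ?_
        rw [← hjs s (hXT hs), (v.1.2 : (v.1 : N) ∈ j.range).choose_spec]
        exact v.2 s hs
      · intro a b h
        refine Subtype.ext (Subtype.ext ?_)
        rw [← (a.1.2 : (a.1 : N) ∈ j.range).choose_spec, ← (b.1.2 : (b.1 : N) ∈ j.range).choose_spec]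
        exact congrArg (fun c : K => j (c : F)) h
      · intro c
        refine ⟨⟨⟨j c, c, rfl⟩, fun s hs => ?_⟩, Subtype.ext (hj ?_)⟩
        · show s • j (c : F) = j c
          rw [hjs s (hXT hs), c.2 s hs]
        · exact (⟨_, rfl⟩ : j (c : F) ∈ j.range).choose_spec
    have hF : Nat.card F ≤ Nat.card f.range * Nat.card K := by
      rw [Nat.card_congr (AddMonoidHom.ofInjective hj).toEquiv, ← hidx, ← Nat.card_congr hLK]
      have e := AddSubgroup.card_mul_index ((fixV N X).addSubgroupOf j.range)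
      rw [← e, mul_comm]
      refine Nat.mul_le_mul_right _ ((AddSubgroup.relIndex_le_of_le_right hL ?_).trans
        (hXb.relIndex_le hX1X))
      exact AddSubgroup.index_ne_zero_of_finite
    have hKtop := fixed_eq_top hp2 K f.range f.range.subtype f.range.subtype_injective hF
    intro s hs x
    exact (hmemK x).1 (hKtop ▸ Subfield.mem_top x) s hs
  -- so `B` fixes the line
  have hBline : ∀ b ∈ B, ∀ x, act b ![x, 0] = ![x, 0] := by
    intro b hb x
    have h1 : ((ψ.symm ![x, 0] : ↥W) : N) ∈ fixV N B := hBfix _ fun X hXm s hs => by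
      have := hline s ((hX X hXm).1 hs) x
      rw [hXline X hXm s hs x] at this
      have h2 := congrArg (fun v => ((ψ.symm v : ↥W) : N)) this
      simpa only [act, AddEquiv.symm_apply_apply] using h2
    simp only [act, h1 b hb, Subtype.coe_eta, AddEquiv.apply_symm_apply]
  -- the action on the quotient by the line
  have hBy : ∀ b ∈ B, ∃ c : F, ∀ y, act b ![0, y] 1 = c * y := by
    intro b hb
    obtain ⟨a', ha'⟩ := hu b (hTe1 b (hBT hb)) 1
    have ha0 : ∀ y, y = a' * act b ![0, y] 1 := by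
      intro y
      have h1 := ha' ![0, y]
      rw [act_u, zero_add, one_mul, show (![y, y] : Fin 2 → F) = ![y, 0] + ![0, y] by simp,
        act_add, hBline b hb, vec_eta (act b ![0, y]), act_u] at h1
      have h2 := congrFun h1 0
      simp at h2
      linear_combination h2
    have hne : a' ≠ 0 := fun h => one_ne_zero (α := F) (by rw [ha0 1, h, zero_mul])
    exact ⟨a'⁻¹, fun y => by
      have := ha0 y
      field_simp
      linear_combination -this⟩
  have hBone : ∀ b ∈ B, act b ![0, 1] 1 = 1 := by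
    intro b hb
    obtain ⟨c, hc⟩ := hBy b hb
    have key : ∀ k : ℕ, act (b ^ k) ![0, 1] 1 = c ^ k := by
      intro k
      induction k with
      | zero => rw [pow_zero, act_one, pow_zero]; rfl
      | succ k ih =>
        rw [pow_succ', act_mul]
        set v := act (b ^ k) ![0, 1] with hv
        rw [vec_eta v, show (![v 0, v 1] : Fin 2 → F) = ![v 0, 0] + ![0, v 1] by simp, act_add,
          hBline b hb, Pi.add_apply, hc, ih, pow_succ']
        simp
    obtain ⟨k, hk⟩ := hT ⟨b, hBT hb⟩
    have h1 := key (p ^ k)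
    rw [show b ^ p ^ k = 1 from congrArg Subtype.val hk, act_one] at h1
    have h2 : (c - 1) ^ p ^ k = 0 := by
      rw [sub_pow_char_pow, one_pow, ← h1]
      simp
    have hc1 : c = 1 := sub_eq_zero.1 (eq_zero_of_pow_eq_zero h2)
    rw [hc, hc1, one_mul]
  -- so `B ≤ E C(W)`
  have hBE : ∀ b ∈ B, ∃ e : ↥E, ∀ v, act b v = act (e : Γ) v := by
    intro b hb
    set γ := act b ![0, 1] 0 with hγ
    refine ⟨u γ, ?_⟩
    set b' := (u (-γ) : Γ) * b with hb'
    have hb0 : ∀ y, act b ![0, y] = ![act b ![0, y] 0, y] := fun y => by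
      obtain ⟨c, hc⟩ := hBy b hb
      have h1 := hBone b hb
      rw [hc, mul_one] at h1
      conv_lhs => rw [vec_eta (act b ![0, y]), hc, h1, one_mul]
    have h01 : act b' ![0, 1] = ![0, 1] := by
      rw [hb', act_mul, hb0, ← hγ, act_u]
      simp
    have hx0 : ∀ x, act b' ![x, 0] = ![x, 0] := fun x => by
      rw [hb', act_mul, hBline b hb, act_u]
      simp
    have hy0 : ∀ y, act b' ![0, y] = ![0, y] := by
      intro y
      obtain ⟨a', ha'⟩ := hl b' h01 1
      -- the lower transvection moves `e1` to `e1 + e2`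
      have h1 := ha' ![1, 0]
      rw [act_l, show (![1, 1 * 1 + 0] : Fin 2 → F) = ![1, 0] + ![0, 1] by simp, act_add, hx0, h01,
        act_l] at h1
      have h2 := congrFun h1 1
      simp at h2
      have h3 := ha' ![0, y]
      rw [act_l, show (![0, 1 * 0 + y] : Fin 2 → F) = ![0, y] by simp] at h3
      set w := act b' ![0, y] with hw
      rw [vec_eta w, act_l, ← h2] at h3
      have h4 := congrFun h3 1
      simp at h4
      have h5 : w 1 = y := by
        rw [hw, hb', act_mul, hb0, act_u]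
        simp
      rw [vec_eta w, h4, h5]
    have hid : ∀ v, act b' v = v := fun v => by
      rw [vec_eta v, show (![v 0, v 1] : Fin 2 → F) = ![v 0, 0] + ![0, v 1] by simp, act_add, hx0,
        hy0]
    intro v
    have h1 : act (u (-γ) : Γ) (act b v) = act (u (-γ) : Γ) (act (u γ : Γ) v) := by
      rw [← act_mul, ← hb', hid, vec_eta v, act_u, act_u]
      simp
    exact act_inj _ _ _ h1
  -- the map onto `SL₂`
  have hall : ∀ g : Γ, ∃ e : ↥E, ∀ v, act g v = act (e : Γ) v := by
    let D : Subgroup Γ :=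
      { carrier := {g | ∃ e : ↥E, ∀ v, act g v = act (e : Γ) v}
        one_mem' := ⟨1, fun v => by rw [coe_one]⟩
        mul_mem' := by
          rintro g h ⟨e, he⟩ ⟨e', he'⟩
          exact ⟨e * e', fun v => by rw [act_mul, he', he, coe_mul, act_mul]⟩
        inv_mem' := by
          rintro g ⟨e, he⟩
          exact ⟨e⁻¹, fun v => act_inj g _ _ (by
            rw [← act_mul, mul_inv_cancel, act_one, he, ← act_mul, coe_inv, mul_inv_cancel,
              act_one])⟩ }
    intro g
    have : (⊤ : Subgroup Γ) ≤ D := hgen ▸ sup_le (fun e he => ⟨⟨e, he⟩, fun v => rfl⟩) hBE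
    exact this (mem_top g)
  choose φ hφ using hall
  have huniq : ∀ e e' : ↥E, (∀ v, act (e : Γ) v = act (e' : Γ) v) → e = e' := fun e e' h => by
    refine ρ.injective ?_
    ext i j
    have := congrFun (h (Pi.single j 1)) i
    rw [act_E, act_E, mulVec_single_one, mulVec_single_one] at this
    exact this
  let Φ : Γ →* SL(2, F) := MonoidHom.mk' (fun g => ρ (φ g)) fun g h => by
    rw [← map_mul]
    congr 1
    exact huniq _ _ fun v => by rw [← hφ, act_mul, hφ h, hφ g, coe_mul, act_mul]
  have hΦ : Function.Surjective Φ := fun s => by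
    refine ⟨(ρ.symm s : ↥E), ?_⟩
    show ρ (φ _) = s
    rw [huniq (φ _) (ρ.symm s) fun v => (hφ _ v).symm, MulEquiv.apply_symm_apply]
  exact ⟨Φ.ker, inferInstance, ⟨QuotientGroup.quotientKerEquivOfSurjective Φ hΦ⟩⟩

/-- The statement. -/
theorem one_block (hp2 : p ≠ 2) [CharP F p] {T B : Subgroup Γ} (hT : IsPGroup p T) (hBT : B ≤ T)
    (𝒳 : Set (Subgroup Γ)) (hX : ∀ X ∈ 𝒳, X ≤ T ∧ IsBest N X)
    (hBfix : ∀ v : N, (∀ X ∈ 𝒳, v ∈ fixV N X) → v ∈ fixV N B)
    (E : Subgroup Γ) [E.Normal] (hgen : E ⊔ B = ⊤)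
    (W : AddSubgroup N) (hW : ∀ g : Γ, ∀ w ∈ W, g • w ∈ W)
    (ρ : ↥E ≃* SL(2, F)) (ψ : ↥W ≃+ (Fin 2 → F))
    (hψ : ∀ (e : ↥E) (w : ↥W), ψ ⟨(e : Γ) • (w : N), hW _ _ w.2⟩ = (ρ e).1.mulVec (ψ w)) :
    ∃ (K : Subgroup Γ) (_ : K.Normal), Nonempty (Γ ⧸ K ≃* SL(2, F)) := by
  letI : MulAction ↥T ↥W :=
    { smul := fun t w => ⟨(t : Γ) • (w : N), hW _ _ w.2⟩
      one_smul := fun w => Subtype.ext (one_smul Γ (w : N))
      mul_smul := fun s t w => Subtype.ext (mul_smul (s : Γ) (t : Γ) (w : N)) }
  obtain ⟨m, hm, hcard⟩ := FiniteField.card F p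
  have hdvd : p ∣ Nat.card ↥W := by
    rw [Nat.card_congr ψ.toEquiv, Nat.card_fun, Nat.card_eq_fintype_card (α := F), hcard]
    exact dvd_pow (dvd_pow_self p m.ne_zero) (by simp)
  have h0 : (0 : ↥W) ∈ MulAction.fixedPoints ↥T ↥W := fun t => Subtype.ext (smul_zero (t : Γ))
  obtain ⟨w, hw, hne⟩ := hT.exists_fixed_point_of_prime_dvd_card_of_fixed_point ↥W hdvd h0
  obtain ⟨P, hP⟩ := exists_sl_first_col (v := ψ w) (fun h => hne ((ψ.map_eq_zero_iff).1 h).symm)
  let Pv : (Fin 2 → F) ≃+ (Fin 2 → F) :=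
    { toFun := fun v => (P⁻¹ : SL(2, F)).1.mulVec v
      invFun := fun v => P.1.mulVec v
      left_inv := fun v => by
        show P.1.mulVec ((P⁻¹ : SL(2, F)).1.mulVec v) = v
        rw [mulVec_mulVec, show P.1 * (P⁻¹ : SL(2, F)).1 = (1 : SL(2, F)).1 from
          congrArg Subtype.val (mul_inv_cancel P)]
        exact one_mulVec v
      right_inv := fun v => by
        show (P⁻¹ : SL(2, F)).1.mulVec (P.1.mulVec v) = v
        rw [mulVec_mulVec, show (P⁻¹ : SL(2, F)).1 * P.1 = (1 : SL(2, F)).1 from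
          congrArg Subtype.val (inv_mul_cancel P)]
        exact one_mulVec v
      map_add' := fun v w => mulVec_add _ v w }
  refine one_block_aux hp2 hT hBT 𝒳 hX hBfix E hgen W hW (ρ.trans (MulAut.conj P⁻¹)) (ψ.trans Pv)
    ?_ ?_
  · intro e x
    show (P⁻¹ : SL(2, F)).1.mulVec (ψ _) =
      (P⁻¹ * ρ e * P⁻¹⁻¹ : SL(2, F)).1.mulVec ((P⁻¹ : SL(2, F)).1.mulVec (ψ x))
    rw [hψ, mulVec_mulVec, mulVec_mulVec]
    refine congrArg (fun M => Matrix.mulVec M (ψ x)) ?_
    exact congrArg Subtype.val (inv_mul_cancel_right (P⁻¹ * ρ e) P⁻¹).symm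
  · intro t ht
    have : (ψ.trans Pv).symm ![1, 0] = w := by
      show ψ.symm (P.1.mulVec ![1, 0]) = w
      rw [hP, AddEquiv.symm_apply_apply]
    rw [this]
    exact congrArg Subtype.val (hw ⟨t, ht⟩)

end CfsgLib.CharTransfer
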