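import Cfsg.Agent.Lib.CharTransfer.Functor
import Cfsg.Agent.Lib.CharTransfer.Kill
import Cfsg.Agent.Lib.CharTransfer.Baumann
import Cfsg.Agent.Lib.LocalEven.GN.RankQuot
import Cfsg.Agent.Lib.LocalEven.PushBaumannApps

/-!
A minimal subgroup outside `M` over the Baumann subgroup, and its rank one quotient.
-/

set_option autoImplicit false
set_option linter.unusedSectionVars false
set_option linter.style.haveILetI false

namespace CfsgLib.CharTransfer

open Cfsg Subgroup CfsgLib.Techniques
open scoped commutatorElement Pointwise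
open CfsgLib.LocalEven.Push (jay)

universe u

variable {G : Type u} [Group G] [Finite G] {p : ℕ} [Fact p.Prime] {S : Sylow p G}
  {M Y : Subgroup G}

theorem normalizer_le_map_char (A : Subgroup G) (C : Subgroup ↥A) [C.Characteristic] :
    normalizer (A : Set G) ≤ normalizer ((C.map A.subtype : Subgroup G) : Set G) := by
  intro g hg
  refine mem_normalizer_iff_map_conj_eq.2 ?_
  have e1 : (C.map A.subtype).map (MulAut.conj g).toMonoidHom =
      (C.map ((MulEquiv.subgroupMap (MulAut.conj g) A).trans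
        (MulEquiv.subgroupCongr (mem_normalizer_iff_map_conj_eq.1 hg))).toMonoidHom).map
        A.subtype := by
    rw [map_map, map_map]; rfl
  refine e1.trans ?_
  rw [characteristic_iff_map_eq.1 inferInstance]

theorem le_normalizer_map_normal {H : Subgroup G} (N : Subgroup ↥H) [N.Normal] :
    H ≤ normalizer ((N.map H.subtype : Subgroup G) : Set G) := by
  intro x hx
  refine Subgroup.mem_normalizer_iff.2 fun y => ⟨?_, ?_⟩
  · rintro ⟨c, hc, rfl⟩
    exact ⟨⟨x, hx⟩ * c * ⟨x, hx⟩⁻¹, (inferInstance : N.Normal).conj_mem c hc _, rfl⟩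
  · rintro ⟨c, hc, he⟩
    refine ⟨⟨x, hx⟩⁻¹ * c * ⟨x, hx⟩⁻¹⁻¹, (inferInstance : N.Normal).conj_mem c hc _, ?_⟩
    simp only [Subgroup.coe_subtype, coe_mul, coe_inv] at he ⊢
    rw [he]; group

theorem map_cen_conj (m : G) (A : Subgroup G) :
    cj m (centralizer (A : Set G)) = centralizer ((cj m A : Subgroup G) : Set G) :=
  CfsgLib.Techniques.map_centralizer_mulEquiv (MulAut.conj m) A

theorem jay_char (S : Subgroup G) : ((jay S).subgroupOf S).Characteristic := by
  have e : (jay S).subgroupOf S = jay (⊤ : Subgroup ↥S) := by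
    have h := map_jay S.subtype S.subtype_injective ⊤
    rw [← MonoidHom.range_eq_map, Subgroup.range_subtype] at h
    rw [h]
    exact comap_map_eq_self_of_injective S.subtype_injective _
  rw [e, characteristic_iff_map_eq]
  intro φ
  have h := map_jay φ.toMonoidHom φ.injective (⊤ : Subgroup ↥S)
  rw [map_top_of_surjective _ φ.surjective] at h
  exact h.symm

theorem sylow_ne_bot (h : Fail S M Y) : (S : Subgroup G) ≠ ⊥ := fun hb => h.ne (top_le_iff.1 fun g _ => by
  by_contra hg
  refine h.ne (top_le_iff.1 ?_)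
  have hQ : pCore p G = ⊥ := le_bot_iff.1 (hb ▸ (CfsgLib.Base.isPGroup_pCore p G).le_sylow_of_normal S)
  intro x _
  have hx : x ∈ centralizer ((pCore p G : Subgroup G) : Set G) := by
    rw [hQ]; intro y hy; rw [mem_bot.1 hy]; simp
  have := h.cons hx
  rw [hQ] at this
  rw [mem_bot.1 this]
  exact one_mem _)

theorem jay_ne_bot (h : Fail S M Y) : jay (S : Subgroup G) ≠ ⊥ := fun hb => by
  obtain ⟨A, hA⟩ := CfsgLib.LocalEven.Push.exists_mas (S := (S : Subgroup G))
  have hA0 : A = ⊥ := le_bot_iff.1 (hb ▸ CfsgLib.LocalEven.Push.le_jay hA)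
  refine sylow_ne_bot h (le_bot_iff.1 fun x hx => ?_)
  have := CfsgLib.LocalEven.Push.mas_cen hA
  rw [hA0] at this
  exact this.le ⟨hx, fun y hy => by rw [mem_bot.1 hy]; simp⟩

theorem zOf_le_centerThompson (S : Subgroup G) :
    CfsgLib.LocalEven.CD.zOf S ≤ centerThompsonAOf S := by
  rw [CfsgLib.LocalEven.Push.centerThompsonAOf_eq]
  obtain ⟨A, hA⟩ := CfsgLib.LocalEven.Push.exists_mas (S := S)
  exact fun z hz => ⟨CfsgLib.LocalEven.Push.le_jay hA ((CfsgLib.LocalEven.Push.mas_cen hA).le
    ⟨hz.1, fun a ha => hz.2 a (hA.1 ha)⟩), fun y hy => hz.2 y (CfsgLib.LocalEven.Push.jay_le hy)⟩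

theorem sylow_le (h : Fail S M Y) : (S : Subgroup G) ≤ M :=
  (le_centralizer_iff.1 inf_le_right).trans h.cz

theorem normalizer_bau_le (h : Fail S M Y) : normalizer (bau (S : Subgroup G) : Set G) ≤ M :=
  (normalizer_bau_le_wImg _).trans h.nW

theorem normalizer_jay_le (h : Fail S M Y) : normalizer (jay (S : Subgroup G) : Set G) ≤ M := by
  refine h.uniq _ ?_ fun htop => h.ne (top_le_iff.1 fun g _ => ?_)
  · haveI := jay_char (S : Subgroup G)
    refine le_normalizer.trans ?_
    conv_rhs => rw [← map_subgroupOf_eq_of_le (CfsgLib.LocalEven.Push.jay_le (S := (S : Subgroup G)))]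
    exact normalizer_le_map_char (S : Subgroup G) _
  · set Cj := centralizer (centerThompsonAOf (S : Subgroup G) : Set G) with hCj
    have hn : (⊤ : Subgroup G) ≤ normalizer (Cj : Set G) := fun x _ => by
      refine mem_normalizer_iff_cj.2 ?_
      rw [hCj, map_cen_conj, CfsgLib.LocalEven.Push.centerThompsonAOf_eq, cj_inf, map_cen_conj,
        mem_normalizer_iff_cj.1 (htop ▸ mem_top x : x ∈ normalizer (jay (S : Subgroup G) : Set G))]
    obtain ⟨a, ha, c, hc, rfl⟩ := (sylIn_top S).frattini (N := Cj) le_top hn (mem_top g)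
    exact mul_mem (h.cz (centralizer_le (zOf_le_centerThompson (S : Subgroup G)) hc))
      (normalizer_bau_le h ha.2)

/-- A minimal subgroup outside `M` over `B(S) O_p(G)`, with its Sylow subgroup. -/
structure MinOver (S : Sylow p G) (M H R : Subgroup G) : Prop where
  base : bau (S : Subgroup G) ⊔ pCore p G ≤ R
  notM : ¬ H ≤ M
  min : ∀ K : Subgroup G, bau (S : Subgroup G) ⊔ pCore p G ≤ K → K < H → K ≤ M
  RS : R ≤ (S : Subgroup G)
  syl : SylIn p R H

theorem exists_minOver (h : Fail S M Y) : ∃ H R : Subgroup G, MinOver S M H R := by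
  set D := bau (S : Subgroup G) ⊔ pCore p G with hD
  have hDS : D ≤ (S : Subgroup G) :=
    sup_le (bau_le _) ((CfsgLib.Base.isPGroup_pCore p G).le_sylow_of_normal S)
  obtain ⟨H0, ⟨hDH, hH0⟩, hmin⟩ := Set.Finite.exists_minimal
    (s := {K : Subgroup G | D ≤ K ∧ ¬ K ≤ M}) (Set.toFinite _)
    ⟨⊤, le_top, fun hle => h.ne (top_le_iff.1 hle)⟩
  obtain ⟨R0, hR0, hDR⟩ := exists_sylIn_ge (p := p) (S.isPGroup'.to_le hDS)
    (le_inf hDH (hDS.trans (sylow_le h)))
  obtain ⟨m, hm, hmR⟩ := (sylIn_of_le S (sylow_le h)).exists_conj hR0.isPGroup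
    (hR0.le.trans inf_le_right)
  -- `m` normalises `D`
  have hjB : jay (S : Subgroup G) ≤ R0 := ((jay_le_bau _).trans le_sup_left).trans hDR
  have e1 : cj m (jay (S : Subgroup G)) = jay (S : Subgroup G) := by
    refine Subgroup.eq_of_le_of_card_ge ?_ (card_cj m _).ge
    refine map_le_iff_le_comap.2 (sSup_le fun A hA => map_le_iff_le_comap.1 ?_)
    exact CfsgLib.LocalEven.Push.le_jay (CfsgLib.LocalEven.Push.mas_cj m hA
      ((cj_mono ((CfsgLib.LocalEven.Push.le_jay hA).trans hjB)).trans hmR))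
  have e2 : cj m (bau (S : Subgroup G)) = bau (S : Subgroup G) := by
    refine Subgroup.eq_of_le_of_card_ge (le_inf ((cj_mono (le_sup_left.trans hDR)).trans hmR) ?_)
      (card_cj m _).ge
    have hc : centerThompsonAOf (S : Subgroup G) = jay (S : Subgroup G) ⊓
        centralizer (jay (S : Subgroup G) : Set G) := CfsgLib.LocalEven.Push.centerThompsonAOf_eq
    have hcj : cj m (centerThompsonAOf (S : Subgroup G)) = centerThompsonAOf (S : Subgroup G) := by
      rw [hc, cj_inf, map_cen_conj, e1]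
    refine (cj_mono inf_le_right).trans ?_
    rw [map_cen_conj, hcj]
  have eD : cj m D = D := by
    rw [hD, cj, Subgroup.map_sup, ← cj, e2]
    congr 1
    exact mem_normalizer_iff_cj.1 (by rw [normalizer_eq_top]; exact mem_top m)
  have eM : cj m M = M := cj_eq_self_of_mem hm
  have hmin' : ∀ K : Subgroup G, D ≤ K → K < cj m H0 → K ≤ M := by
    intro K hK hlt
    by_contra hKM
    have h1 : cj m⁻¹ K ≤ H0 := by
      rw [← cj_inv_cj m H0]; exact cj_mono hlt.le
    have h2 : H0 ≤ cj m⁻¹ K := hmin (y := cj m⁻¹ K)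
      ⟨by rw [← cj_inv_cj m D, eD]; exact cj_mono hK, fun hle => hKM (by
        rw [← cj_cj_inv m K, ← eM]; exact cj_mono hle)⟩ h1
    exact hlt.2 (by rw [← cj_cj_inv m K]; exact cj_mono h2)
  refine ⟨cj m H0, cj m R0, ⟨?_, ?_, hmin', hmR, ?_⟩⟩
  · rw [← hD, ← eD]; exact cj_mono hDR
  · exact fun hle => hH0 (by
      rw [← cj_inv_cj m H0, ← cj_inv_cj m M, eM]; exact cj_mono hle)
  · refine SylIn.cj' ?_ m
    obtain ⟨R1, hR1, hle⟩ := exists_sylIn_ge (p := p) hR0.isPGroup (hR0.le.trans inf_le_left)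
    rcases eq_or_lt_of_le hle with rfl | hlt
    · exact hR1
    exfalso
    obtain ⟨n, hn, hnR⟩ := SetLike.exists_of_lt (lt_inf_normalizer' hR1.isPGroup hlt)
    have hnM : n ∈ M := by
      refine normalizer_jay_le h (mem_normalizer_iff_cj.2 ?_)
      have hj1 : jay (cj m R0) = jay (S : Subgroup G) :=
        jay_eq hmR (by rw [← e1]; exact cj_mono hjB)
      have hj0 : jay R0 = jay (S : Subgroup G) := by
        have := map_jay (MulAut.conj m).toMonoidHom (MulAut.conj m).injective R0
        rw [hj1] at this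
        refine (map_injective (f := (MulAut.conj m).toMonoidHom) (MulAut.conj m).injective) ?_
        rw [← this]
        exact e1.symm
      have := map_jay (MulAut.conj n).toMonoidHom (MulAut.conj n).injective R0
      have hh : R0.map (MulAut.conj n).toMonoidHom = R0 := mem_normalizer_iff_cj.1 hn.2
      rw [hh, hj0] at this
      exact this.symm
    have hRn : R0 < R0 ⊔ zpowers n :=
      lt_of_le_of_ne le_sup_left fun he => hnR (he.ge ((le_sup_right : zpowers n ≤ R0 ⊔ zpowers n) (mem_zpowers n)))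
    refine hRn.ne (hR0.eq_of_le (hR1.isPGroup.to_le (sup_le hle (zpowers_le.2 hn.1))) hRn.le
      (sup_le hR0.le (zpowers_le.2 ⟨hR1.le hn.1, hnM⟩))).symm

variable {H R : Subgroup G}

theorem MinOver.le (m : MinOver S M H R) : bau (S : Subgroup G) ⊔ pCore p G ≤ H :=
  m.base.trans m.syl.le

theorem MinOver.bau_R (m : MinOver S M H R) : bau R = bau (S : Subgroup G) :=
  bau_eq m.RS (le_sup_left.trans m.base)

theorem MinOver.jay_R (m : MinOver S M H R) : jay R = jay (S : Subgroup G) :=
  jay_eq m.RS (((jay_le_bau _).trans le_sup_left).trans m.base)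

theorem MinOver.norm_R_le (h : Fail S M Y) (m : MinOver S M H R) :
    normalizer (R : Set G) ≤ M := by
  intro n hn
  refine normalizer_jay_le h (mem_normalizer_iff_cj.2 ?_)
  have := map_jay (MulAut.conj n).toMonoidHom (MulAut.conj n).injective R
  have hh : R.map (MulAut.conj n).toMonoidHom = R := mem_normalizer_iff_cj.1 hn
  rw [hh, m.jay_R] at this
  exact this.symm

theorem MinOver.R_le (h : Fail S M Y) (m : MinOver S M H R) : R ≤ M := m.RS.trans (sylow_le h)

/-- A normal subgroup of `H` whose centralised part... : a normal subgroup containing `R` is `H`. -/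
theorem MinOver.normal_eq (h : Fail S M Y) (m : MinOver S M H R) {N : Subgroup G} (hNH : N ≤ H)
    (hn : H ≤ normalizer (N : Set G)) (hRN : R ≤ N) : N = H := by
  refine (eq_or_lt_of_le hNH).resolve_right fun hlt => m.notM fun g hg => ?_
  obtain ⟨a, ha, c, hc, rfl⟩ := m.syl.frattini hNH hn hg
  rw [inf_eq_left.2 hRN] at ha
  exact mul_mem (m.min N (m.base.trans hRN) hlt hc) (m.norm_R_le h ha.2)

theorem MinOver.coatom (h : Fail S M Y) (m : MinOver S M H R) :
    ∃! N : Subgroup ↥H, IsCoatom N ∧ R.subgroupOf H ≤ N := by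
  have hmax : ∀ N : Subgroup ↥H, R.subgroupOf H ≤ N → N ≠ ⊤ → N ≤ M.subgroupOf H := by
    intro N hN hne
    have hlt : N.map H.subtype < H := by
      refine lt_of_le_of_ne (map_subtype_le N) fun he => hne ?_
      refine map_injective H.subtype_injective ?_
      rw [he, ← MonoidHom.range_eq_map, range_subtype]
    refine map_le_iff_le_comap.1 (m.min _ (m.base.trans ?_) hlt)
    rw [← map_subgroupOf_eq_of_le m.syl.le]
    exact map_mono hN
  have hne : M.subgroupOf H ≠ ⊤ := fun he => m.notM (subgroupOf_eq_top.1 he)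
  refine ⟨M.subgroupOf H, ⟨⟨hne, fun N hlt => ?_⟩, comap_mono (m.R_le h)⟩, ?_⟩
  · by_contra hN
    exact hlt.2 (hmax N ((comap_mono (m.R_le h)).trans hlt.le) hN)
  · rintro N ⟨hN, hRN⟩
    exact ((hN.le_iff.1 (hmax N hRN hN.1)).resolve_left hne).symm

/-- The contradiction from a rank one quotient. -/
theorem no_rankOne (hp2 : p ≠ 2) (h : Fail S M Y) (hYQ : Y ≤ pCore p G) (m : MinOver S M H R)
    (K : Subgroup ↥H) [K.Normal] (F : Type) [Field F] [Fintype F] {n : ℕ}
    (hF : Fintype.card F = p ^ n)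
    (hK : Nonempty (↥H ⧸ K ≃* Matrix.ProjectiveSpecialLinearGroup (Fin 2) F)) : False := by
  classical
  haveI : CharP F p := charP_of_card_eq_prime_pow hF
  obtain ⟨P, hP⟩ : ∃ P : Sylow p ↥H, (P : Subgroup ↥H) = R.subgroupOf H :=
    ⟨(m.syl.isPGroup.comap_subtype).toSylow m.syl.not_dvd, rfl⟩
  have hPR : (P : Subgroup ↥H).map H.subtype = R := by
    rw [hP, map_subgroupOf_eq_of_le m.syl.le]
  have hQH : pCore p G ≤ H := le_sup_right.trans m.le
  have hcons : centralizer ((pCore p ↥H : Subgroup ↥H) : Set ↥H) ≤ pCore p ↥H := by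
    intro c hc
    have hQ : (pCore p G).subgroupOf H ≤ pCore p ↥H :=
      CfsgLib.Base.le_pCore (CfsgLib.Base.isPGroup_pCore p G).comap_subtype
    exact hQ (mem_subgroupOf.2 (h.cons fun q hq =>
      congrArg Subtype.val (hc ⟨q, hQH hq⟩ (hQ (mem_subgroupOf.2 hq)))))
  have huniq := m.coatom h
  rw [← hP] at huniq
  have hE := CfsgLib.LocalEven.Push.setup_of_sylow P hcons huniq (K := K) F hF hK
  set T := pCore p ↥H with hT
  set Bh := bau (P : Subgroup ↥H) with hBh
  have hBmap : Bh.map H.subtype = bau (S : Subgroup G) := by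
    rw [hBh, ← map_bau H.subtype H.subtype_injective, hPR, m.bau_R]
  have hzS : CfsgLib.LocalEven.CD.zOf (S : Subgroup G) ≤ pCore p G :=
    fun x hx => h.cons fun q hq =>
      hx.2 q ((CfsgLib.Base.isPGroup_pCore p G).le_sylow_of_normal S hq)
  have hZ : ¬ (CfsgLib.LocalEven.CD.zOf (P : Subgroup ↥H)).Normal := by
    intro hn
    set C := (centralizer ((CfsgLib.LocalEven.CD.zOf (P : Subgroup ↥H) : Subgroup ↥H) : Set ↥H)).map
      H.subtype with hC
    have hRC : R ≤ C := by
      rw [← hPR]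
      exact map_mono (le_centralizer_iff.1 inf_le_right)
    haveI := hn
    have hCe : C = H := m.normal_eq h (map_subtype_le _) (by
      rw [hC]
      exact le_normalizer_map_normal _) hRC
    refine m.notM fun g hg => h.cz fun z hz => ?_
    obtain ⟨c, hc, rfl⟩ := hCe.ge hg
    have hzR : z ∈ R := m.base (le_sup_right (a := bau (S : Subgroup G)) (hzS hz))
    exact congrArg Subtype.val (hc ⟨z, m.syl.le hzR⟩
      ⟨by rw [hP]; exact mem_subgroupOf.2 hzR, fun y hy => Subtype.ext
        (hz.2 _ (m.RS (hPR.le ⟨y, hy, rfl⟩)))⟩)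
  set L := normalClosure (Bh : Set ↥H) with hL
  obtain ⟨BL, hBL⟩ : ∃ BL : Sylow p ↥L, (BL : Subgroup ↥L) = Bh.subgroupOf L :=
    CfsgLib.LocalEven.Push.baumann_sylow P hE hZ (B := Bh) rfl
  have hBL' : Bh ≤ L := le_normalClosure
  haveI hLn : L.Normal := normalClosure_normal
  have hBT : ¬ Bh ≤ T := by
    intro hle
    have hj : jay T = jay (P : Subgroup ↥H) := jay_eq hE.le ((jay_le_bau _).trans hle)
    refine m.notM fun g hg => normalizer_jay_le h (mem_normalizer_iff_cj.2 ?_)
    have h1 := map_jay (MulAut.conj (⟨g, hg⟩ : ↥H)).toMonoidHom (MulAut.conj _).injective T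
    have hTg : T.map (MulAut.conj (⟨g, hg⟩ : ↥H)).toMonoidHom = T :=
      mem_normalizer_iff_cj.1 (by rw [normalizer_eq_top]; exact mem_top _)
    rw [hTg, hj] at h1
    rw [← m.jay_R, ← hPR, map_jay H.subtype H.subtype_injective]
    conv_rhs => rw [h1]
    rw [cj, map_map, map_map]
    rfl
  have hBP : Bh ≤ (P : Subgroup ↥H) := bau_le _
  have hBTP : Bh ⊔ T = (P : Subgroup ↥H) := by
    refine (hE.irred (Bh ⊔ T) le_sup_right (sup_le hBP hE.le) fun x hx => ?_).resolve_left
      fun he => hBT (le_sup_left.trans he.le)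
    have e : Bh.map (MulAut.conj x).toMonoidHom = Bh := by
      have := map_bau (MulAut.conj x).toMonoidHom (MulAut.conj x).injective (P : Subgroup ↥H)
      have hh : (P : Subgroup ↥H).map (MulAut.conj x).toMonoidHom = (P : Subgroup ↥H) :=
        mem_normalizer_iff_cj.1 hx
      rw [hh] at this
      exact this.symm
    show (Bh ⊔ T).map (MulAut.conj x).toMonoidHom ≤ _
    have hh : T.map (MulAut.conj x).toMonoidHom = T :=
      mem_normalizer_iff_cj.1 (by rw [normalizer_eq_top]; exact mem_top _)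
    rw [Subgroup.map_sup, e, hh]
  obtain ⟨e0⟩ := hK
  have R1 := CfsgLib.LocalEven.Push.rankOne_of_mulEquiv e0 (CfsgLib.LocalEven.Push.rankOne_PSL p)
  set π := QuotientGroup.mk' K
  have hπ : Function.Surjective π := QuotientGroup.mk'_surjective K
  -- `L` covers the quotient
  have hLK : L.map π = ⊤ := by
    obtain ⟨Pb, hPb⟩ : ∃ Pb : Sylow p (↥H ⧸ K), (Pb : Subgroup (↥H ⧸ K)) = (P : Subgroup ↥H).map π :=
      ⟨P.mapSurjective hπ, Sylow.coe_mapSurjective hπ P⟩
    obtain ⟨Qb, hQb⟩ := R1.two Pb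
    haveI : (T.map π).Normal := (inferInstance : T.Normal).map π hπ
    have hTb : T.map π ≤ (Pb : Subgroup (↥H ⧸ K)) ⊓ Qb :=
      le_inf (((CfsgLib.Base.isPGroup_pCore p ↥H).map π).le_sylow_of_normal Pb)
        (((CfsgLib.Base.isPGroup_pCore p ↥H).map π).le_sylow_of_normal Qb)
    rw [R1.ti _ _ (Ne.symm hQb), le_bot_iff] at hTb
    have hPL : (Pb : Subgroup (↥H ⧸ K)) ≤ L.map π := by
      rw [hPb, ← hBTP, Subgroup.map_sup, hTb, sup_bot_eq]
      exact map_mono hBL'
    haveI : (L.map π).Normal := hLn.map π hπ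
    rw [← top_le_iff, ← R1.join Pb Qb (Ne.symm hQb)]
    refine sup_le hPL ?_
    obtain ⟨g, hg⟩ := MulAction.exists_smul_eq (↥H ⧸ K) Pb Qb
    rw [← hg]
    intro y hy
    obtain ⟨u, hu, rfl⟩ := CfsgLib.Classical.mem_sylow_smul (p := p) |>.1 hy
    exact (inferInstance : (L.map π).Normal).conj_mem _ (hPL hu) g
  -- transport to a subgroup of `G`
  set L' := L.map H.subtype with hL'
  set B := bau (S : Subgroup G)
  have hL'H : L' ≤ H := map_subtype_le _
  have hBL'' : B ≤ L' := by rw [← hBmap]; exact map_mono hBL'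
  have hHn : H ≤ normalizer (L' : Set G) := le_normalizer_map_normal L
  have hQn : pCore p G ≤ normalizer (L' : Set G) := hQH.trans hHn
  have hsyl : SylIn p B L' := by
    refine ⟨hBL'', S.isPGroup'.to_le (bau_le _), ?_⟩
    rw [← hBmap, hL', relIndex_map_map_of_injective _ _ H.subtype_injective]
    show ¬ p ∣ (Bh.subgroupOf L).index
    rw [← hBL]
    exact BL.not_dvd_index
  have hL'M : ¬ L' ≤ M := by
    intro hle
    refine m.notM fun g hg => ?_
    obtain ⟨a, ha, c, hc, rfl⟩ :=
      SylIn.frattini m.syl hL'H hHn hg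
    refine mul_mem (hle hc) (normalizer_bau_le h ?_)
    have hRL : R ⊓ L' = B :=
      hsyl.eq_of_le (m.syl.isPGroup.to_le inf_le_left)
        (le_inf (le_sup_left.trans m.base) hBL'') inf_le_right
    rw [hRL] at ha
    exact ha.2
  haveI hQL : ((pCore p G).subgroupOf L').Normal := (pCore_normal p G).subgroupOf L'
  have hQLB : pCore p G ⊓ L' ≤ B := hsyl.le_of_normal
    ((CfsgLib.Base.isPGroup_pCore p G).to_le inf_le_left) inf_le_right (by
      intro x hx
      refine mem_normalizer_iff_cj.2 (Subgroup.eq_of_le_of_card_ge ?_ (card_cj x _).ge)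
      rw [cj_inf, cj_eq_self_of_mem hx,
        mem_normalizer_iff_cj.1 (by rw [normalizer_eq_top]; exact mem_top x : x ∈ normalizer ((pCore p G : Subgroup G) : Set G))])
  obtain ⟨PL, hPL⟩ : ∃ PL : Sylow p ↥L', (PL : Subgroup ↥L') = B.subgroupOf L' :=
    ⟨(hsyl.isPGroup.comap_subtype).toSylow hsyl.not_dvd, rfl⟩
  have huL : ∃! N : Subgroup ↥L', IsCoatom N ∧ (PL : Subgroup ↥L') ≤ N := by
    rw [hPL]
    have hmax : ∀ N : Subgroup ↥L', B.subgroupOf L' ≤ N → N ≠ ⊤ → N ≤ M.subgroupOf L' := by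
      intro N hN hne
      set N' := N.map L'.subtype with hN'
      have hBN : B ≤ N' := by
        rw [← map_subgroupOf_eq_of_le hBL'']; exact map_mono hN
      have hN'L : N' ≤ L' := map_subtype_le _
      by_contra hNM
      have hQN : pCore p G ≤ normalizer (N' : Set G) := by
        intro q hq
        refine mem_normalizer_iff_cj.2 (Subgroup.eq_of_le_of_card_ge ?_ (card_cj q _).ge)
        rw [cj_le_iff]
        intro x hx
        have h1 : q * x * q⁻¹ * x⁻¹ ∈ pCore p G ⊓ L' := by
          refine ⟨?_, mul_mem ((mem_normalizer_iff.1 (hQn hq) x).1 (hN'L hx)) (L'.inv_mem (hN'L hx))⟩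
          have := (pCore_normal p G).conj_mem _ (inv_mem hq) x
          simpa [mul_assoc] using mul_mem hq this
        have := mul_mem (hBN (hQLB h1)) hx
        simpa using this
      have hNQ : ((N' ⊔ pCore p G : Subgroup G) : Set G) = (N' : Set G) * (pCore p G : Set G) :=
        Subgroup.mul_normal _ _
      have hK' : N' ⊔ pCore p G = H := by
        refine (eq_or_lt_of_le (sup_le (hN'L.trans hL'H) hQH)).resolve_right fun hlt => hNM ?_
        exact map_le_iff_le_comap.1 (le_sup_left.trans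
          (m.min _ (sup_le (hBN.trans le_sup_left) le_sup_right) hlt))
      refine hne (map_injective L'.subtype_injective ?_)
      rw [← MonoidHom.range_eq_map, range_subtype]
      refine le_antisymm hN'L fun l hl => ?_
      have : l ∈ ((N' ⊔ pCore p G : Subgroup G) : Set G) := hK'.symm ▸ hL'H hl
      rw [hNQ] at this
      obtain ⟨a, ha, q, hq, rfl⟩ := this
      refine mul_mem ha (hBN (hQLB ⟨hq, ?_⟩))
      simpa using mul_mem (inv_mem (hN'L ha)) hl
    have hne : M.subgroupOf L' ≠ ⊤ := fun he => hL'M (subgroupOf_eq_top.1 he)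
    have hBM : B.subgroupOf L' ≤ M.subgroupOf L' := comap_mono ((bau_le _).trans (sylow_le h))
    refine ⟨M.subgroupOf L', ⟨⟨hne, fun N hlt => ?_⟩, hBM⟩, ?_⟩
    · by_contra hN
      exact hlt.2 (hmax N (hBM.trans hlt.le) hN)
    · rintro N ⟨hN, hRN⟩
      exact ((hN.le_iff.1 (hmax N hRN hN.1)).resolve_left hne).symm
  -- `L'` is constrained
  have hconsL : centralizer ((pCore p ↥L' : Subgroup ↥L') : Set ↥L') ≤ pCore p ↥L' := by
    set N := (centralizer ((pCore p ↥L' : Subgroup ↥L') : Set ↥L'))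
    haveI hNn : N.Normal := inferInstance
    refine CfsgLib.Base.le_pCore (N := N) ?_
    intro ⟨c, hc⟩
    obtain ⟨k, m', hm', hkm⟩ :=
      Nat.exists_eq_pow_mul_and_not_dvd (orderOf_pos c).ne' p (Fact.out : p.Prime).ne_one
    set d := c ^ p ^ k with hd
    have hdN : d ∈ N := pow_mem hc _
    have hd1 : d ^ m' = 1 := by rw [hd, ← pow_mul, ← hkm, pow_orderOf_eq_one]
    have hcen : (d : G) ∈ centralizer ((pCore p G : Subgroup G) : Set G) := by
      intro t ht
      have hy : ⁅(d : G), t⁆ ∈ pCore p G ⊓ L' := by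
        refine ⟨?_, ?_⟩
        · exact mul_mem ((pCore_normal p G).conj_mem _ ht _) ((pCore p G).inv_mem ht)
        · rw [show ⁅(d : G), t⁆ = (d : G) * (t * (d : G)⁻¹ * t⁻¹) by
            simp only [commutatorElement_def]; group]
          exact mul_mem d.2 ((mem_normalizer_iff.1 (hQn ht) _).1 (inv_mem d.2))
      have hyc : (⟨_, hy.2⟩ : ↥L') ∈ pCore p ↥L' :=
        (CfsgLib.Base.le_pCore (CfsgLib.Base.isPGroup_pCore p G).comap_subtype :
          (pCore p G).subgroupOf L' ≤ _) hy.1
      have hcomm := congrArg Subtype.val (hdN _ hyc)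
      simp only [coe_mul] at hcomm
      have := mem_of_coprime_step (D := (⊥ : Subgroup G)) (p := p) (g := (d : G)) (x := t)
        (y := ⁅(d : G), t⁆) (by rw [normalizer_eq_top]; exact mem_top _)
        (by rw [normalizer_eq_top]; exact mem_top _)
        (by rw [normalizer_eq_top]; exact mem_top _) (by simp [commutatorElement_def])
        (by rw [mem_bot, ← hcomm]; group) (n := m') (by rw [← SubgroupClass.coe_pow, hd1, coe_one])
        (by
          obtain ⟨j, hj⟩ := CfsgLib.Base.isPGroup_pCore p G ⟨_, hy.1⟩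
          exact ⟨j, congrArg Subtype.val hj⟩)
        ((Fact.out : p.Prime).coprime_iff_not_dvd.2 hm').symm
      rw [mem_bot, commutatorElement_eq_one_iff_mul_comm] at this
      exact this.symm
    obtain ⟨j, hj⟩ := CfsgLib.Base.isPGroup_pCore p G ⟨_, h.cons hcen⟩
    refine ⟨k + j, Subtype.ext (Subtype.ext ?_)⟩
    have := congrArg Subtype.val hj
    simpa [hd, ← pow_mul, ← pow_add] using this
  -- the quotient
  let q : ↥L' →* ↥H ⧸ K := π.comp (Subgroup.inclusion hL'H)
  have hq : Function.Surjective q := by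
    intro y
    obtain ⟨l, hl, rfl⟩ := (hLK.symm ▸ mem_top y : y ∈ L.map π)
    exact ⟨⟨(l : G), ⟨l, hl, rfl⟩⟩, rfl⟩
  have hK' : Nonempty (↥L' ⧸ q.ker ≃* Matrix.ProjectiveSpecialLinearGroup (Fin 2) F) :=
    ⟨(QuotientGroup.quotientKerEquivOfSurjective q hq).trans e0⟩
  have hPLB : (PL : Subgroup ↥L').map L'.subtype = B := by
    rw [hPL, map_subgroupOf_eq_of_le hBL'']
  set τ := L'.subtype.comp (PL : Subgroup ↥L').subtype with hτdef
  have hτ : Function.Injective τ :=
    L'.subtype_injective.comp (PL : Subgroup ↥L').subtype_injective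
  have hτr : τ.range = B := by rw [hτdef, MonoidHom.range_comp, range_subtype, hPLB]
  have hjB : jay B = jay (S : Subgroup G) := jay_eq (bau_le _) (jay_le_bau _)
  -- the centre is not central
  have hz0 : ¬ (Subgroup.center ↥(PL : Subgroup ↥L')).map (PL : Subgroup ↥L').subtype ≤
      Subgroup.center ↥L' := by
    intro hle
    refine hL'M fun l hl => h.cz fun z hz => ?_
    have hzB : z ∈ B := ⟨hz.1, fun y hy => hz.2 y (CfsgLib.LocalEven.Push.jay_le
      ((CfsgLib.LocalEven.Push.centerThompsonAOf_eq (S := (S : Subgroup G))).le hy).1)⟩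
    have hzP : (⟨z, hBL'' hzB⟩ : ↥L') ∈ (PL : Subgroup ↥L') := by
      rw [hPL]; exact mem_subgroupOf.2 hzB
    have hc := hle ⟨⟨_, hzP⟩, mem_center_iff.2 fun y => Subtype.ext (Subtype.ext (hz.2 _
      (bau_le _ (hPLB.le ⟨_, y.2, rfl⟩)))), rfl⟩
    exact (congrArg Subtype.val (mem_center_iff.1 hc ⟨l, hl⟩)).symm
  -- the Thompson subgroup is outside the core
  have hj0 : ¬ (thompsonSubgroupA ↥(PL : Subgroup ↥L')).map (PL : Subgroup ↥L').subtype ≤
      pCore p ↥L' := by
    intro hle
    set T' := (pCore p ↥L').map L'.subtype with hT'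
    have hT'S : T' ≤ (S : Subgroup G) := ((map_mono
      ((CfsgLib.Base.isPGroup_pCore p ↥L').le_sylow_of_normal PL)).trans hPLB.le).trans (bau_le _)
    have hjT : jay (S : Subgroup G) ≤ T' := by
      rw [← hjB, ← hτr, ← CfsgLib.LocalEven.GN.jay_range hτ, hτdef, ← map_map]
      exact map_mono hle
    refine hL'M fun l hl => normalizer_jay_le h (mem_normalizer_iff_cj.2 ?_)
    have h1 := map_jay (MulAut.conj l).toMonoidHom (MulAut.conj l).injective T'
    have h2 : T'.map (MulAut.conj l).toMonoidHom = T' :=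
      mem_normalizer_iff_cj.1 (le_normalizer_map_normal (pCore p ↥L') hl)
    rw [h2, jay_eq hT'S hjT] at h1
    exact h1.symm
  have hB0 : CfsgLib.LocalEven.GN.Base p ↥(PL : Subgroup ↥L') := by
    refine ⟨PL.2, (CfsgLib.LocalEven.GN.tildeJ_top ?_).2⟩
    rw [commutator_eq_bot_iff_le_centralizer]
    intro x hx y _
    have hxZ : τ x ∈ centerThompsonAOf (S : Subgroup G) := by
      rw [CfsgLib.LocalEven.Push.centerThompsonAOf_eq, ← hjB,
        ← CfsgLib.LocalEven.Push.centerThompsonAOf_eq, ← hτr,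
        CfsgLib.LocalEven.GN.centerThompson_map hτ]
      exact ⟨x, hx, rfl⟩
    have hyB : τ y ∈ B := hτr.le ⟨y, rfl⟩
    exact hτ (by rw [map_mul, map_mul]; exact (hyB.2 _ hxZ).symm)
  -- the second subgroup is not normal
  have hW0 : ¬ ((CfsgLib.LocalEven.GN.sig p ↥(PL : Subgroup ↥L')).map
      (PL : Subgroup ↥L').subtype).Normal := by
    intro hn
    refine hL'M (le_trans ?_ h.nW)
    rw [wImg, ← CfsgLib.LocalEven.GN.map_sig_range hτ hτr, hτdef, ← map_map]
    exact le_normalizer_map_normal _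
  obtain ⟨⟨e⟩, hfac⟩ := CfsgLib.LocalEven.GN.rankOne_quotient_of PL hconsL huL q.ker F n hF hK'
    hz0 hj0 hB0 (fun h2 => absurd h2 hp2) hW0
  refine hL'M ((le_normalizer_of_natural hp2 (CfsgLib.Base.isPGroup_pCore p G) hQn
    (M := M) (Y := Y) (le_of_eq h.norm) h.comm hYQ PL ?_ ?_ F hF e hfac).trans (le_of_eq h.norm.symm))
  · rw [hPL, map_subgroupOf_eq_of_le hBL'']
    exact (bau_le _).trans (sylow_le h)
  · rw [hPL, map_subgroupOf_eq_of_le hBL'']
    exact inf_le_right.trans (normalizer_bau_le h)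

end CfsgLib.CharTransfer
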