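import Cfsg.Agent.Lib.CharTransfer.Rank
import Cfsg.Agent.Lib.CharTransfer.OneBlock

/-!
The module `Ω₁Z(O_p(H))` of a minimal subgroup outside `M`, as an abstract setting.
-/

set_option autoImplicit false
set_option linter.unusedSectionVars false
set_option linter.style.haveILetI false

namespace CfsgLib.CharTransfer

open Cfsg Subgroup CfsgLib.Techniques
open CfsgLib.LocalEven.Push (MAs jay)
open scoped commutatorElement

universe u

/-- What is used of the action on `Ω₁Z(O_p(H))`. -/
structure Setting (p : ℕ) (Γ : Type*) [Group Γ] (N : Type*) [AddCommGroup N]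
    [DistribMulAction Γ N] where
  /-- the Sylow subgroup -/
  T : Sylow p Γ
  /-- the maximal subgroup over it -/
  M : Subgroup Γ
  /-- the image of the Baumann subgroup -/
  B : Subgroup Γ
  /-- the images of the abelian subgroups of largest order -/
  Xs : Set (Subgroup Γ)
  exp : ∀ v : N, p • v = 0
  faith : ∀ g : Γ, (∀ v : N, g • v = v) → g = 1
  core : pCore p Γ = ⊥
  coatom : IsCoatom M
  TM : (T : Subgroup Γ) ≤ M
  BT : B ≤ (T : Subgroup Γ)
  min : ∀ K : Subgroup Γ, B ≤ K → K ≠ ⊤ → K ≤ M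
  Xle : ∀ X ∈ Xs, X ≤ B
  Xcomm : ∀ X ∈ Xs, ∀ a ∈ X, ∀ b ∈ X, a * b = b * a
  Xbest : ∀ X ∈ Xs, IsBest N X
  Xne : ∃ X ∈ Xs, X ≠ ⊥
  Bfix : ∀ v : N, (∀ X ∈ Xs, v ∈ fixV N X) → v ∈ fixV N B

/-- The conclusion wanted from a setting. -/
def HasPSLQuotient (p : ℕ) (Γ : Type*) [Group Γ] : Prop :=
  ∃ (F : Type) (_ : Field F) (_ : Fintype F) (n : ℕ), Fintype.card F = p ^ n ∧
    ∃ f : Γ →* Matrix.ProjectiveSpecialLinearGroup (Fin 2) F, Function.Surjective f

section Card

variable {G : Type*} [Group G] [Finite G]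

theorem card_eq_map_mul {X : Type*} [Group X] (f : G →* X) (A : Subgroup G) :
    Nat.card A = Nat.card (A.map f) * Nat.card ↥(f.ker ⊓ A) := by
  have h1 := card_mul_index (f.ker.subgroupOf A)
  have h3 : Nat.card (f.ker.subgroupOf A) = Nat.card ↥(f.ker ⊓ A) := by
    rw [← card_map_of_injective A.subtype_injective, subgroupOf_map_subtype]
  have h2 : (f.ker.subgroupOf A).index = Nat.card (A.map f) := relIndex_ker A f
  rw [← h1, h2, h3, mul_comm]

theorem card_mul_le_sup (A B : Subgroup G) :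
    Nat.card A * Nat.card B ≤ Nat.card ↥(A ⊔ B) * Nat.card ↥(B ⊓ A) := by
  have h1 := card_mul_index (B.subgroupOf A)
  have h3 : Nat.card (B.subgroupOf A) = Nat.card ↥(B ⊓ A) := by
    rw [← card_map_of_injective A.subtype_injective, subgroupOf_map_subtype]
  have h4 : Nat.card (B.subgroupOf (A ⊔ B)) = Nat.card B :=
    Nat.card_congr (subgroupOfEquivOfLe le_sup_right).toEquiv
  have h2 := card_mul_index (B.subgroupOf (A ⊔ B))
  rw [h4] at h2
  rw [h3] at h1
  rw [← h1, ← h2]
  have h5 : (B.subgroupOf A).index ≤ (B.subgroupOf (A ⊔ B)).index :=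
    relIndex_le_of_le_right le_sup_left index_ne_zero_of_finite
  calc Nat.card ↥(B ⊓ A) * (B.subgroupOf A).index * Nat.card B
      = (B.subgroupOf A).index * (Nat.card B * Nat.card ↥(B ⊓ A)) := by ring
    _ ≤ (B.subgroupOf (A ⊔ B)).index * (Nat.card B * Nat.card ↥(B ⊓ A)) :=
        Nat.mul_le_mul_right _ h5
    _ = Nat.card B * (B.subgroupOf (A ⊔ B)).index * Nat.card ↥(B ⊓ A) := by ring

/-- An abelian subgroup of largest order against its subgroups, relative to a normal subgroup. -/
theorem mas_measure {P V A A' : Subgroup G} (hVP : V ≤ P) (hV : V ≤ centralizer (V : Set G))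
    (hA : MAs P A) (hA' : A' ≤ A) :
    Nat.card A' * Nat.card ↥(V ⊓ centralizer (A' : Set G)) ≤
      Nat.card A * Nat.card ↥(V ⊓ centralizer (A : Set G)) := by
  set W := V ⊓ centralizer (A' : Set G) with hW
  have hle : A' ⊔ W ≤ centralizer ((A' ⊔ W : Subgroup G) : Set G) := by
    have h1 : A' ≤ centralizer (A' : Set G) := hA'.trans (hA.2.1.trans (centralizer_le hA'))
    have h2 : W ≤ centralizer (W : Set G) :=
      inf_le_left.trans (hV.trans (centralizer_le (inf_le_left : W ≤ V)))
    refine le_centralizer_iff.1 (sup_le ?_ ?_)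
    · exact le_centralizer_iff.1 (sup_le h1 inf_le_right)
    · exact le_centralizer_iff.1 (sup_le (le_centralizer_iff.1 inf_le_right) h2)
  have hbig := hA.2.2 _ (sup_le (hA'.trans hA.1) (inf_le_left.trans hVP)) hle
  have hsmall : W ⊓ A' ≤ V ⊓ centralizer (A : Set G) :=
    le_inf (inf_le_left.trans inf_le_left) (inf_le_right.trans (hA'.trans hA.2.1))
  exact (card_mul_le_sup A' W).trans
    (Nat.mul_le_mul hbig (Nat.le_of_dvd Nat.card_pos (card_dvd_of_le hsmall)))

end Card

variable {G : Type u} [Group G] [Finite G] {p : ℕ} [Fact p.Prime] {S : Sylow p G}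
  {M Y H R : Subgroup G}

/-- A minimal failure gives a setting; so it is enough to exclude that by a quotient. -/
theorem no_fail_of_setting (hp2 : p ≠ 2)
    (key : ∀ (Γ : Type u) [Group Γ] [Finite Γ] (N : Type u) [AddCommGroup N] [Finite N]
      [DistribMulAction Γ N], Setting p Γ N → HasPSLQuotient p Γ)
    (h : Fail S M Y) : False := by
  classical
  obtain ⟨H, R, m⟩ := exists_minOver h
  obtain ⟨P, hP⟩ : ∃ P : Sylow p ↥H, (P : Subgroup ↥H) = R.subgroupOf H :=
    ⟨(m.syl.isPGroup.comap_subtype).toSylow m.syl.not_dvd, rfl⟩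
  have hPR : (P : Subgroup ↥H).map H.subtype = R := by
    rw [hP, map_subgroupOf_eq_of_le m.syl.le]
  set Bh := bau (P : Subgroup ↥H) with hBh
  have hBmap : Bh.map H.subtype = bau (S : Subgroup G) := by
    rw [hBh, ← map_bau H.subtype H.subtype_injective, hPR, m.bau_R]
  have hjmap : (jay (P : Subgroup ↥H)).map H.subtype = jay (S : Subgroup G) := by
    rw [← map_jay H.subtype H.subtype_injective, hPR, m.jay_R]
  have hQH : pCore p G ≤ H := le_sup_right.trans m.le
  set Qh := (pCore p G).subgroupOf H with hQh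
  set O := pCore p ↥H with hO
  have hQO : Qh ≤ O := CfsgLib.Base.le_pCore (CfsgLib.Base.isPGroup_pCore p G).comap_subtype
  have hOP : O ≤ (P : Subgroup ↥H) := (CfsgLib.Base.isPGroup_pCore p ↥H).le_sylow_of_normal P
  set Mh := M.subgroupOf H with hMh
  have hMne : Mh ≠ ⊤ := fun he => m.notM (subgroupOf_eq_top.1 he)
  have hmax : ∀ K : Subgroup ↥H, Bh ⊔ Qh ≤ K → K ≠ ⊤ → K ≤ Mh := by
    intro K hK hne
    have hlt : K.map H.subtype < H := by
      refine lt_of_le_of_ne (map_subtype_le K) fun he => hne ?_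
      refine map_injective H.subtype_injective ?_
      rw [he, ← MonoidHom.range_eq_map, range_subtype]
    refine map_le_iff_le_comap.1 (m.min _ ?_ hlt)
    rw [← hBmap, ← map_subgroupOf_eq_of_le hQH, ← Subgroup.map_sup]
    exact map_mono hK
  have hBP : Bh ≤ (P : Subgroup ↥H) := bau_le _
  have hQP : Qh ≤ (P : Subgroup ↥H) := hQO.trans hOP
  have hPM : (P : Subgroup ↥H) ≤ Mh := hP ▸ comap_mono (m.R_le h)
  have hNJ : normalizer (jay (P : Subgroup ↥H) : Set ↥H) ≤ Mh := by
    intro g hg
    refine normalizer_jay_le h (mem_normalizer_iff_cj.2 ?_)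
    have h1 : (jay (P : Subgroup ↥H)).map (MulAut.conj g).toMonoidHom = jay (P : Subgroup ↥H) :=
      mem_normalizer_iff_cj.1 hg
    have h2 := congrArg (fun X => Subgroup.map H.subtype X) h1
    simp only [map_map] at h2
    rw [← hjmap, cj, map_map]
    exact h2
  -- the module
  let V : Subgroup ↥H :=
    { carrier := {x | x ∈ O ∧ x ^ p = 1 ∧ ∀ y ∈ O, y * x = x * y}
      one_mem' := ⟨one_mem _, one_pow _, fun y _ => by simp⟩
      mul_mem' := fun {a b} ha hb => ⟨mul_mem ha.1 hb.1, by
          rw [(Commute.mul_pow (show Commute a b from hb.2.2 a ha.1) p), ha.2.1, hb.2.1, one_mul],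
        fun y hy => by rw [← mul_assoc, ha.2.2 y hy, mul_assoc, hb.2.2 y hy, mul_assoc]⟩
      inv_mem' := fun {a} ha => ⟨inv_mem ha.1, by rw [inv_pow, ha.2.1, inv_one],
        fun y hy => (show Commute y a from ha.2.2 y hy).inv_right⟩ }
  haveI hVn : V.Normal := ⟨fun x hx g => by
    refine ⟨(inferInstance : O.Normal).conj_mem x hx.1 g, ?_, fun y hy => ?_⟩
    · rw [conj_pow, hx.2.1, mul_one, mul_inv_cancel]
    · have := hx.2.2 _ ((inferInstance : O.Normal).conj_mem y hy g⁻¹)
      calc y * (g * x * g⁻¹) = g * ((g⁻¹ * y * g⁻¹⁻¹) * x) * g⁻¹ := by group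
        _ = g * (x * (g⁻¹ * y * g⁻¹⁻¹)) * g⁻¹ := by rw [this]
        _ = g * x * g⁻¹ * y := by group⟩
  have hVO : V ≤ O := fun x hx => hx.1
  have hVP : V ≤ (P : Subgroup ↥H) := hVO.trans hOP
  have hVc : V ≤ centralizer (V : Set ↥H) := fun x hx y hy => hx.2.2 y (hVO hy)
  letI : CommGroup ↥V :=
    { (inferInstance : Group ↥V) with mul_comm := fun a b => Subtype.ext (b.2.2.2 a a.2.1) }
  let φ : ↥H →* MulAut ↥V := MulAut.conjNormal
  have hφ : ∀ (x : ↥H) (v : ↥V), (φ x v : ↥H) = x * v * x⁻¹ := fun _ _ => rfl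
  have hker : ∀ x : ↥H, x ∈ φ.ker ↔ x ∈ centralizer (V : Set ↥H) := by
    intro x
    rw [MonoidHom.mem_ker, mem_centralizer_iff]
    constructor
    · intro hx v hv
      have := congrArg Subtype.val (MulEquiv.congr_fun hx ⟨v, hv⟩)
      rw [hφ] at this
      exact (mul_inv_eq_iff_eq_mul.1 this).symm
    · intro hx
      refine MulEquiv.ext fun v => Subtype.ext ?_
      rw [hφ, ← hx v v.2, mul_inv_cancel_right]
      rfl
  letI : DistribMulAction ↥φ.range (Additive ↥V) :=
    { smul := fun g v => Additive.ofMul ((g : MulAut ↥V) (Additive.toMul v))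
      one_smul := fun _ => rfl
      mul_smul := fun _ _ _ => rfl
      smul_zero := fun g => congrArg Additive.ofMul (map_one (g : MulAut ↥V))
      smul_add := fun g a b => congrArg Additive.ofMul (map_mul (g : MulAut ↥V) _ _) }
  set π := φ.rangeRestrict with hπ'
  have hπ : Function.Surjective π := φ.rangeRestrict_surjective
  have hfix : ∀ (A : Subgroup ↥H) (v : Additive ↥V),
      v ∈ fixV (Additive ↥V) (A.map π) ↔ ((Additive.toMul v : ↥V) : ↥H) ∈ centralizer (A : Set ↥H) := by
    intro A v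
    rw [mem_centralizer_iff]
    constructor
    · intro hv a ha
      have h1 : φ a (Additive.toMul v) = Additive.toMul v :=
        congrArg Additive.toMul (hv (π a) ⟨a, ha, rfl⟩)
      have := congrArg Subtype.val h1
      rw [hφ] at this
      exact mul_inv_eq_iff_eq_mul.1 this
    · rintro hv _ ⟨a, ha, rfl⟩
      refine congrArg Additive.ofMul (Subtype.ext ?_)
      show ((φ a (Additive.toMul v) : ↥V) : ↥H) = _
      rw [hφ, hv a ha, mul_inv_cancel_right]
      rfl
  have hcard : ∀ A : Subgroup ↥H, Nat.card (fixV (Additive ↥V) (A.map π)) =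
      Nat.card ↥(V ⊓ centralizer (A : Set ↥H)) := fun A => Nat.card_congr
    { toFun := fun v => ⟨((Additive.toMul v.1 : ↥V) : ↥H), (Additive.toMul v.1).2, (hfix A v.1).1 v.2⟩
      invFun := fun w => ⟨Additive.ofMul (⟨w.1, w.2.1⟩ : ↥V), (hfix A _).2 w.2.2⟩
      left_inv := fun _ => rfl
      right_inv := fun _ => rfl }
  -- the kernel lies in `M`
  have hzQ : CfsgLib.LocalEven.CD.zOf (S : Subgroup G) ≤ pCore p G := fun z hz => h.cons fun q hq =>
    hz.2 q ((CfsgLib.Base.isPGroup_pCore p G).le_sylow_of_normal S hq)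
  have hcop : ∀ x ∈ φ.ker, (orderOf x).Coprime p → x ∈ Mh := by
    intro x hx hxo
    refine h.cz fun z hz => ?_
    -- elements of order prime to `p` centralising `V` centralise the centre of `O`
    have hkey : ∀ k : ℕ, ∀ w ∈ O, (∀ y ∈ O, y * w = w * y) → w ^ p ^ k = 1 → Commute x w := by
      intro k
      induction k with
      | zero =>
        intro w _ _ h1
        rw [pow_zero, pow_one] at h1
        rw [h1]; exact Commute.one_right x
      | succ k ih =>
        intro w hw hwc h1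
        have h2 : Commute x (w ^ p) := ih _ (pow_mem hw p)
          (fun y hy => ((show Commute y w from hwc y hy).pow_right p))
          (by rw [← pow_mul, ← pow_succ']; exact h1)
        have hcw : x * w * x⁻¹ ∈ O := (inferInstance : O.Normal).conj_mem w hw x
        have hcwc : ∀ y ∈ O, Commute y (x * w * x⁻¹) := by
          intro y hy
          have h3 := hwc _ ((inferInstance : O.Normal).conj_mem y hy x⁻¹)
          calc y * (x * w * x⁻¹) = x * ((x⁻¹ * y * x⁻¹⁻¹) * w) * x⁻¹ := by group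
            _ = x * (w * (x⁻¹ * y * x⁻¹⁻¹)) * x⁻¹ := by rw [h3]
            _ = x * w * x⁻¹ * y := by group
        have hd : ⁅x, w⁆ ^ p = 1 := by
          rw [commutatorElement_def, ((hcwc w hw).symm.inv_right).mul_pow, conj_pow, h2.eq,
            mul_inv_cancel_right, inv_pow, mul_inv_cancel]
        have hdV : ⁅x, w⁆ ∈ V := ⟨mul_mem hcw (inv_mem hw), hd, fun y hy =>
          ((hcwc y hy).mul_right ((show Commute y w from hwc y hy).inv_right)).eq⟩
        exact CfsgLib.LocalEven.GN.commute_of_step hxo ⟨1, by rw [pow_one]; exact hd⟩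
          ((hker x).1 hx _ hdV).symm
    have hzH : z ∈ H := hQH (hzQ hz)
    obtain ⟨k, hk⟩ := CfsgLib.Base.isPGroup_pCore p ↥H ⟨⟨z, hzH⟩, hQO (mem_subgroupOf.2 (hzQ hz))⟩
    exact (congrArg Subtype.val (hkey k ⟨z, hzH⟩ (hQO (mem_subgroupOf.2 (hzQ hz)))
      (fun y hy => Subtype.ext (hz.2 _ (m.RS (hPR.le ⟨y, hOP hy, rfl⟩))))
      (congrArg Subtype.val hk)).eq).symm
  have hCM : φ.ker ≤ Mh := by
    have hsy : SylIn p ((P : Subgroup ↥H) ⊓ φ.ker) φ.ker :=
      (sylIn_top P).inf_normal le_top (normalizer_eq_top (H := φ.ker)).ge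
    obtain ⟨BK, hBK⟩ : ∃ BK : Sylow p ↥φ.ker,
        (BK : Subgroup ↥φ.ker) = ((P : Subgroup ↥H) ⊓ φ.ker).subgroupOf φ.ker :=
      ⟨(hsy.isPGroup.comap_subtype).toSylow hsy.not_dvd, rfl⟩
    intro x hx
    have hle : (⊤ : Subgroup ↥φ.ker) ≤ Mh.comap φ.ker.subtype := by
      rw [← closure_coprime_sylow BK, closure_le]
      rintro g (hg | hg)
      · exact hcop g g.2 (by rwa [Subgroup.orderOf_coe])
      · rw [hBK] at hg
        exact hPM (mem_subgroupOf.1 hg).1
    exact hle (mem_top (⟨x, hx⟩ : ↥φ.ker))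
  have hOC : O ≤ φ.ker := fun x hx => (hker x).2 fun v hv => (hv.2.2 x hx).symm
  set Mb := Mh.map π with hMb
  have hkerπ : π.ker = φ.ker := φ.ker_rangeRestrict
  have hMb' : Mb.comap π = Mh := by
    rw [hMb, comap_map_eq, hkerπ, sup_eq_left]
    exact hCM
  have hMbne : Mb ≠ ⊤ := fun he => hMne (by rw [← hMb', he, comap_top])
  have hBM : Bh ≤ Mh := hBP.trans hPM
  have hmin : ∀ K : Subgroup ↥φ.range, Bh.map π ≤ K → K ≠ ⊤ → K ≤ Mb := by
    intro K hK hne
    rw [← map_comap_eq_self_of_surjective hπ K]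
    refine map_mono (hmax _ (sup_le (map_le_iff_le_comap.1 hK) ?_) fun he => hne ?_)
    · intro q hq
      show π q ∈ K
      have : q ∈ π.ker := hkerπ ▸ hOC (hQO hq)
      rw [MonoidHom.mem_ker.1 this]
      exact one_mem _
    · rw [← map_comap_eq_self_of_surjective hπ K, he, map_top_of_surjective _ hπ]
  obtain ⟨Tb, hTb⟩ : ∃ Tb : Sylow p ↥φ.range, (Tb : Subgroup ↥φ.range) = (P : Subgroup ↥H).map π :=
    ⟨P.mapSurjective hπ, Sylow.coe_mapSurjective hπ P⟩
  have hTM : (Tb : Subgroup ↥φ.range) ≤ Mb := hTb ▸ map_mono hPM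
  have hcoatom : IsCoatom Mb := by
    refine ⟨hMbne, fun K hlt => ?_⟩
    by_contra hK
    exact hlt.2 (hmin K ((map_mono hBM).trans hlt.le) hK)
  have hnorm : ∀ D : Subgroup ↥H, (P : Subgroup ↥H) ≤ normalizer (D : Set ↥H) →
      ¬ normalizer (D : Set ↥H) ≤ Mh → D.Normal := by
    intro D hD hDM
    refine normalizer_eq_top_iff.1 ?_
    by_contra hne
    exact hDM (hmax _ ((sup_le hBP hQP).trans hD) hne)
  have hcore : pCore p ↥φ.range = ⊥ := by
    set D0 := (pCore p ↥φ.range).comap π with hD0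
    haveI : D0.Normal := (inferInstance : (pCore p ↥φ.range).Normal).comap π
    set D := (P : Subgroup ↥H) ⊓ D0
    have himg : pCore p ↥φ.range ≤ D.map π := by
      intro y hy
      have hyT : y ∈ (Tb : Subgroup ↥φ.range) :=
        (CfsgLib.Base.isPGroup_pCore p ↥φ.range).le_sylow_of_normal Tb hy
      rw [hTb] at hyT
      obtain ⟨x, hx, rfl⟩ := hyT
      exact ⟨x, ⟨hx, hy⟩, rfl⟩
    have hPD : (P : Subgroup ↥H) ≤ normalizer (D : Set ↥H) := by
      refine le_normalizer_iff.2 fun y hy x hx => ⟨(P : Subgroup ↥H).mul_mem ((P : Subgroup ↥H).mul_mem hy hx.1) ((P : Subgroup ↥H).inv_mem hy), ?_⟩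
      exact (inferInstance : D0.Normal).conj_mem x hx.2 y
    have hsplit : D0 ≤ D ⊔ φ.ker := by
      intro x hx
      obtain ⟨d, hd, hde⟩ := himg hx
      have : d⁻¹ * x ∈ φ.ker := hkerπ ▸ MonoidHom.mem_ker.2 (by
        rw [map_mul, map_inv, hde, inv_mul_cancel])
      rw [show x = d * (d⁻¹ * x) by group]
      exact mul_mem (le_sup_left (b := φ.ker) hd) (le_sup_right (a := D) this)
    have hDn : D.Normal := by
      refine hnorm D hPD fun hle => hMne (top_le_iff.1 fun g _ => ?_)
      obtain ⟨a, ha, c, hc, rfl⟩ := (sylIn_top P).frattini (N := D0) le_top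
        (normalizer_eq_top (H := D0)).ge (mem_top g)
      exact mul_mem (hsplit.trans (sup_le (inf_le_left.trans hPM) hCM) hc) (hle ha.2)
    refine le_bot_iff.1 (himg.trans ?_)
    rintro _ ⟨x, hx, rfl⟩
    have h1 : x ∈ O := CfsgLib.Base.le_pCore (N := D) (P.isPGroup'.to_le inf_le_left) hx
    exact mem_bot.2 (MonoidHom.mem_ker.1 (hkerπ ▸ hOC h1))
  have hJC : ¬ jay (P : Subgroup ↥H) ≤ φ.ker := by
    intro hle
    set D := (P : Subgroup ↥H) ⊓ φ.ker
    have hj : jay D = jay (P : Subgroup ↥H) := jay_eq inf_le_left (le_inf CfsgLib.LocalEven.Push.jay_le hle)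
    refine hMne (top_le_iff.1 fun g0 _ => ?_)
    obtain ⟨g, ⟨-, hg⟩, c, hc, rfl⟩ := (sylIn_top P).frattini (N := φ.ker) le_top
      (normalizer_eq_top (H := φ.ker)).ge (mem_top g0)
    refine mul_mem (hCM hc) (hNJ ?_)
    refine mem_normalizer_iff_map_conj_eq.2 ?_
    have h1 := map_jay (MulAut.conj g).toMonoidHom (MulAut.conj g).injective D
    have h2 : D.map (MulAut.conj g).toMonoidHom = D := mem_normalizer_iff_map_conj_eq.1 hg
    rw [h2, hj] at h1
    exact h1.symm
  -- the setting
  have key' := key ↥φ.range (Additive ↥V)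
    { T := Tb
      M := Mb
      B := Bh.map π
      Xs := {X | ∃ A, MAs (P : Subgroup ↥H) A ∧ X = A.map π}
      exp := fun v => by
        refine congrArg Additive.ofMul (Subtype.ext ?_ : (Additive.toMul v) ^ p = 1)
        rw [SubgroupClass.coe_pow]
        exact (Additive.toMul v).2.2.1
      faith := fun g hg => Subtype.ext (MulEquiv.ext fun v =>
        congrArg Additive.toMul (hg (Additive.ofMul v)))
      core := hcore
      coatom := hcoatom
      TM := hTM
      BT := hTb ▸ map_mono hBP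
      min := hmin
      Xle := by
        rintro _ ⟨A, hA, rfl⟩
        exact map_mono ((CfsgLib.LocalEven.Push.le_jay hA).trans (jay_le_bau _))
      Xcomm := by
        rintro _ ⟨A, hA, rfl⟩ _ ⟨a, ha, rfl⟩ _ ⟨b, hb, rfl⟩
        rw [← map_mul, ← map_mul, hA.2.1 hb a ha]
      Xbest := by
        rintro _ ⟨A, hA, rfl⟩ X' hX'
        set A' := A ⊓ X'.comap π with hA'
        have e : A'.map π = X' := by
          refine le_antisymm (map_le_iff_le_comap.2 inf_le_right) fun y hy => ?_
          obtain ⟨a, ha, rfl⟩ := hX' hy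
          exact ⟨a, ⟨ha, hy⟩, rfl⟩
        have hk : π.ker ⊓ A' = π.ker ⊓ A := by
          refine le_antisymm (inf_le_inf_left _ inf_le_left) (le_inf inf_le_left (le_inf inf_le_right ?_))
          intro x hx
          show π x ∈ X'
          rw [MonoidHom.mem_ker.1 hx.1]
          exact one_mem _
        have h1 := mas_measure (A' := A') hVP hVc hA inf_le_left
        rw [card_eq_map_mul π A', card_eq_map_mul π A, hk, ← hcard, ← hcard, e] at h1
        refine Nat.le_of_mul_le_mul_right ?_ (Nat.card_pos (α := ↥(π.ker ⊓ A)))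
        convert h1 using 1 <;> ring
      Xne := by
        by_contra hno
        push Not at hno
        refine hJC (sSup_le fun A hA => ?_)
        have h1 := hno _ ⟨A, hA, rfl⟩
        rw [Subgroup.map_eq_bot_iff, hkerπ] at h1
        exact h1
      Bfix := by
        intro v hv
        refine (hfix Bh v).2 ?_
        have hz : ((Additive.toMul v : ↥V) : ↥H) ∈ centerThompsonAOf (P : Subgroup ↥H) := by
          rw [CfsgLib.LocalEven.Push.centerThompsonAOf_eq]
          have hcen : ∀ A, MAs (P : Subgroup ↥H) A →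
              ((Additive.toMul v : ↥V) : ↥H) ∈ centralizer (A : Set ↥H) :=
            fun A hA => (hfix A v).1 (hv _ ⟨A, hA, rfl⟩)
          refine ⟨?_, le_centralizer_iff.1 (sSup_le fun A hA => ?_ :
            jay (P : Subgroup ↥H) ≤ centralizer ((zpowers ((Additive.toMul v : ↥V) : ↥H) : Subgroup ↥H) : Set ↥H))
            (mem_zpowers _)⟩
          · obtain ⟨A, hA⟩ := CfsgLib.LocalEven.Push.exists_mas (S := (P : Subgroup ↥H))
            exact CfsgLib.LocalEven.Push.le_jay hA ((CfsgLib.LocalEven.Push.mas_cen hA).le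
              ⟨hVP (Additive.toMul v).2, hcen A hA⟩)
          · exact le_centralizer_iff.1 (zpowers_le.2 (hcen A hA))
        rw [mem_centralizer_iff]
        exact fun b hb => (hb.2 _ hz).symm }
  obtain ⟨F, iF, iF', n, hF, f, hf⟩ := key'
  have hfπ : Function.Surjective (f.comp π) := hf.comp hπ
  exact no_rankOne hp2 h h.yle m (f.comp π).ker F hF
    ⟨QuotientGroup.quotientKerEquivOfSurjective _ hfπ⟩

end CfsgLib.CharTransfer
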