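import Cfsg.Agent.Lib.CharTransfer.Blocks

/-!
Transfer is controlled by the centraliser of the centre and one normaliser.
-/

set_option autoImplicit false
set_option linter.unusedSectionVars false
set_option linter.style.haveILetI false

namespace CfsgLib.CharTransfer

open Cfsg Subgroup CfsgLib.Techniques
open CfsgLib.LocalEven.CD (zOf)
open scoped commutatorElement

universe u

variable {p : ℕ} [Fact p.Prime] {G : Type u} [Group G] [Finite G]

/-- The two functors. -/
def twoFun (p : ℕ) : Set (∀ (Q : Type u) [Group Q], Subgroup Q) :=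
  {fun Q [Group Q] => centerFun Q, fun Q [Group Q] => wSub p Q}

theorem twoFun_spec : ∀ W ∈ twoFun.{u} p, IsCharPFunctor.{u} p W := by
  rintro W (rfl | rfl)
  · exact centerFun_isCharP
  · exact wSub_isCharP

theorem transferTarget_twoFun (S : Subgroup G) :
    transferTarget S (indFam G (twoFun p)) =
      (S ⊓ ⁅normalizer ((zOf S : Subgroup G) : Set G), normalizer ((zOf S : Subgroup G) : Set G)⁆) ⊔
        (S ⊓ ⁅normalizer (wImg p S : Set G), normalizer (wImg p S : Set G)⁆) := by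
  rw [transferTarget, indFam, iSup_image, twoFun, iSup_insert, iSup_singleton,
    inducedFunctor_center, inducedFunctor_wSub, top_inf_eq, top_inf_eq]

/-- The two parts multiply to the intersection with the derived subgroup. -/
theorem two_factor (hp : p ≠ 2) (S : Sylow p G) (g : G) :
    g ∈ (S : Subgroup G) ⊓ commutator G ↔
      ∃ a ∈ (S : Subgroup G) ⊓ ⁅centralizer ((zOf (S : Subgroup G) : Subgroup G) : Set G),
        centralizer ((zOf (S : Subgroup G) : Subgroup G) : Set G)⁆,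
      ∃ b ∈ (S : Subgroup G) ⊓ ⁅normalizer (wImg p (S : Subgroup G) : Set G),
        normalizer (wImg p (S : Subgroup G) : Set G)⁆, g = a * b := by
  set C := centralizer ((zOf (S : Subgroup G) : Subgroup G) : Set G) with hCdef
  set N := normalizer (wImg p (S : Subgroup G) : Set G) with hNdef
  have hSC : (S : Subgroup G) ≤ C := le_centralizer_iff.1 inf_le_right
  have hSN : (S : Subgroup G) ≤ N := le_normalizer.trans (normalizer_le_wImg _)
  set A := (S : Subgroup G) ⊓ ⁅C, C⁆ with hA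
  set B := (S : Subgroup G) ⊓ ⁅N, N⁆ with hB
  have hle : ∀ X : Subgroup G, (S : Subgroup G) ⊓ ⁅X, X⁆ ≤ (S : Subgroup G) ⊓ commutator G :=
    fun X => inf_le_inf_left _ (commutator_mono le_top le_top)
  constructor
  swap
  · rintro ⟨a, ha, b, hb, rfl⟩
    exact mul_mem (hle C ha) (hle N hb)
  intro hg
  -- `B` is invariant under `S`
  have hBS : ∀ s ∈ (S : Subgroup G), ∀ b ∈ B, s⁻¹ * b * s ∈ B := by
    intro s hs b hb
    have h1 : ⁅s⁻¹, b⁆ ∈ B := ⟨(commutator_le_self (S : Subgroup G))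
      (commutator_mem_commutator (inv_mem hs) hb.1),
      commutator_mem_commutator (hSN (inv_mem hs)) (hSN hb.1)⟩
    have h2 := mul_mem h1 hb
    rwa [show ⁅s⁻¹, b⁆ * b = s⁻¹ * b * s by simp only [commutatorElement_def]; group] at h2
  let D : Subgroup G :=
    { carrier := {x | ∃ a ∈ A, ∃ b ∈ B, x = a * b}
      one_mem' := ⟨1, one_mem _, 1, one_mem _, (one_mul 1).symm⟩
      mul_mem' := by
        rintro _ _ ⟨a, ha, b, hb, rfl⟩ ⟨a', ha', b', hb', rfl⟩
        exact ⟨a * a', mul_mem ha ha', a'⁻¹ * b * a' * b', mul_mem (hBS a' ha'.1 b hb) hb',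
          by group⟩
      inv_mem' := by
        rintro _ ⟨a, ha, b, hb, rfl⟩
        refine ⟨a⁻¹, inv_mem ha, a * b⁻¹ * a⁻¹, ?_, by group⟩
        have := hBS a⁻¹ (inv_mem ha.1) b⁻¹ (inv_mem hb)
        rwa [inv_inv] at this }
  suffices h : (S : Subgroup G) ⊓ commutator G ≤ D from h hg
  have hAD : A ≤ D := fun a ha => ⟨a, ha, 1, one_mem _, (mul_one a).symm⟩
  have hBD : B ≤ D := fun b hb => ⟨1, one_mem _, b, hb, (one_mul b).symm⟩
  have hctl := controls (p := p) twoFun_spec (Set.mem_insert _ _)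
    (Set.mem_insert_of_mem _ rfl) (fun X _ _ S M Y h =>
      no_fail_of_setting hp (fun Γ _ _ N _ _ _ D => D.hasPSLQuotient hp) h)
  have heq : (S : Subgroup G) ⊓ commutator G =
      transferTarget (S : Subgroup G) (indFam G (twoFun p)) := by
    rw [transferTarget]
    exact familyTransferAt_of_controls (isConjugacyFunctor_indFam (G := G) twoFun_spec)
      (sylIn_top S) (hctl G)
  rw [heq, transferTarget_twoFun]
  refine sup_le ?_ hBD
  -- transfer inside the normaliser of the centre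
  set L := normalizer ((zOf (S : Subgroup G) : Subgroup G) : Set G) with hLdef
  have hCL : C ≤ L := centralizer_le_normalizer _
  have hLC : L ≤ normalizer (C : Set G) := by
    intro x hx
    rw [hCdef, mem_normalizer_iff_cj, map_cen_conj, mem_normalizer_iff_cj.1 hx]
  set P := S.subtype (hSC.trans hCL) with hP
  intro x hx
  have hxL : x ∈ L := hSC.trans hCL hx.1
  have hx' : (⟨x, hxL⟩ : ↥L) ∈ commutator ↥L ⊓ (P : Subgroup ↥L) := by
    refine ⟨?_, mem_subgroupOf.2 hx.1⟩
    obtain ⟨y, hy, hyx⟩ := (map_subtype_commutator L).symm ▸ hx.2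
    rwa [← show y = ⟨x, hxL⟩ from Subtype.ext hyx]
  rw [commutator_inf_eq_focalSubgroup, focalSubgroup_def] at hx'
  refine (closure_le (K := D.subgroupOf L)).2 ?_ hx'
  rintro z ⟨hz, y, hy, v, rfl⟩
  rw [SetLike.mem_coe, mem_subgroupOf]
  have hy' : (y : G) ∈ (S : Subgroup G) := mem_subgroupOf.1 hy
  have hz' : ((⁅y, v⁆ : ↥L) : G) ∈ (S : Subgroup G) := mem_subgroupOf.1 hz
  rw [show ((⁅y, v⁆ : ↥L) : G) = ⁅(y : G), (v : G)⁆ by simp [commutatorElement_def]] at hz' ⊢
  set r := (y : G)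
  obtain ⟨m, ⟨-, hm⟩, c, hc, hcm⟩ :=
    (sylIn_of_le S (hSC.trans hCL)).frattini (N := C) hCL hLC v.2
  rw [inf_eq_left.2 hSC] at hm
  have hmr : m * r⁻¹ * m⁻¹ ∈ (S : Subgroup G) := (mem_normalizer_iff.1 hm _).1 (inv_mem hy')
  have hB1 : r * (m * r⁻¹ * m⁻¹) ∈ B := ⟨mul_mem hy' hmr, by
    have := commutator_mem_commutator (hSN hy') (normalizer_le_wImg (p := p) _ hm)
    rwa [show ⁅r, m⁆ = r * (m * r⁻¹ * m⁻¹) by simp only [commutatorElement_def]; group] at this⟩
  have e : ⁅r, (v : G)⁆ = (r * ⁅c, m * r⁻¹ * m⁻¹⁆ * r⁻¹) * (r * (m * r⁻¹ * m⁻¹)) := by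
    rw [hcm]; simp only [commutatorElement_def]; group
  have hA1 : r * ⁅c, m * r⁻¹ * m⁻¹⁆ * r⁻¹ ∈ A := by
    refine ⟨?_, ?_⟩
    · have h1 : ⁅r, (v : G)⁆ * (r * (m * r⁻¹ * m⁻¹))⁻¹ ∈ (S : Subgroup G) :=
        mul_mem hz' (inv_mem hB1.1)
      rwa [e, mul_inv_cancel_right] at h1
    · rw [show r * ⁅c, m * r⁻¹ * m⁻¹⁆ * r⁻¹ = ⁅r * c * r⁻¹, r * (m * r⁻¹ * m⁻¹) * r⁻¹⁆ by
        simp only [commutatorElement_def]; group]
      exact commutator_mem_commutator (mul_mem (mul_mem (hSC hy') hc) (inv_mem (hSC hy')))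
        (mul_mem (mul_mem (hSC hy') (hSC hmr)) (inv_mem (hSC hy')))
  rw [e]
  exact mul_mem (hAD hA1) (hBD hB1)

end CfsgLib.CharTransfer
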